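import Cfsg.Agent.SW2.A

/-! Groups with a maximal 2-local subgroup `S₄ ≀ 2`: existence of the frame `Fr`. -/

set_option autoImplicit false
set_option linter.unusedSectionVars false

namespace Cfsg.Agent.SW2

open Cfsg.Agent.BG Subgroup Equiv
open scoped Pointwise

/-- `z^a v^b s^c` in `S₄` -/
def p0d (a b c : Bool) : Perm (Fin 4) :=
  (bif a then swap 0 1 * swap 2 3 else 1) * (bif b then swap 0 2 * swap 1 3 else 1) * (bif c then swap 0 1 else 1)
/-- the 3-cycle -/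
def p0x : Perm (Fin 4) := swap 0 1 * swap 0 2
/-- the swap of the two blocks -/
def p0t : Perm (Fin 4 ⊕ Fin 4) := Equiv.sumComm _ _

theorem p0d_mul : ∀ a b c a' b' c' : Bool,
    p0d a b c * p0d a' b' c' = p0d (a ^^ a' ^^ (c && b')) (b ^^ b') (c ^^ c') := by decide +kernel
theorem p0t_mul (A B : Perm (Fin 4)) : p0t * Perm.sumCongr A B = Perm.sumCongr B A * p0t := by
  ext (a | a) <;> rfl
theorem p0t_sq : p0t * p0t = 1 := by ext (a | a) <;> rfl
theorem p0_dec : ∀ A : Perm (Fin 4), ∃ (i : Fin 3) (a b c : Bool), A = p0x ^ (i : ℕ) * p0d a b c := by decide +kernel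

/-- the model inside the symmetric group -/
def p0ψ : Md →* Perm (Fin 4 ⊕ Fin 4) :=
  MonoidHom.mk' (fun p => Perm.sumCongr (p0d p.a p.b p.c) (p0d p.d p.e p.k) * (bif p.g then p0t else 1)) (by
    rintro ⟨a, b, c, d, e, k, g⟩ ⟨a', b', c', d', e', k', g'⟩
    show (fun p : Md => Perm.sumCongr (p0d p.a p.b p.c) (p0d p.d p.e p.k) * (bif p.g then p0t else 1))
      (mmul _ _) = _
    cases g <;> cases g' <;> simp only [mmul, cond_true, cond_false, Bool.not_true, Bool.not_false, mul_one, ← p0d_mul,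
      ← Perm.sumCongr_mul]
    · rw [mul_assoc]
    · rw [mul_assoc, mul_assoc, p0t_mul]
    · rw [mul_assoc, ← mul_assoc p0t, p0t_mul, mul_assoc, p0t_sq, mul_one])

/-- the element of order 3 -/
def p0X : Perm (Fin 4 ⊕ Fin 4) := Perm.sumCongr p0x 1

theorem p0_mem {w : Perm (Fin 4 ⊕ Fin 4)} :
    w ∈ Cfsg.blockStabilizerS4wr2 ↔ ∃ A B, w = Perm.sumCongr A B ∨ w = Perm.sumCongr A B * p0t := by
  have ht : p0t ∈ Cfsg.blockStabilizerS4wr2 := by
    rw [blockStabilizerS4wr2, MulAction.mem_stabilizer_iff, Set.smul_set_insert, Set.smul_set_singleton, Set.pair_comm]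
    congr 1
    · rw [Set.smul_set_range]; rfl
    · rw [Set.smul_set_range]; rfl
  constructor
  · intro h
    have h' := h
    rw [blockStabilizerS4wr2, MulAction.mem_stabilizer_iff, Set.smul_set_insert, Set.smul_set_singleton] at h'
    have h1 : w • Set.range (Sum.inl : Fin 4 → Fin 4 ⊕ Fin 4) ∈
        ({Set.range Sum.inl, Set.range Sum.inr} : Set (Set (Fin 4 ⊕ Fin 4))) := h' ▸ Set.mem_insert _ _
    rcases h1 with h1 | h1
    · obtain ⟨⟨A, B⟩, e⟩ := Perm.mem_sumCongrHom_range_of_perm_mapsTo_inl (σ := w)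
        fun a ha => h1 ▸ Set.smul_mem_smul_set ha
      exact ⟨A, B, Or.inl e.symm⟩
    · obtain ⟨⟨A, B⟩, e⟩ := Perm.mem_sumCongrHom_range_of_perm_mapsTo_inl (σ := p0t * w) fun a ha => by
        obtain ⟨b, hb⟩ : w • a ∈ Set.range (Sum.inr : Fin 4 → Fin 4 ⊕ Fin 4) :=
          (Set.mem_singleton_iff.1 h1) ▸ Set.smul_mem_smul_set ha
        exact ⟨b, by rw [Perm.mul_apply, show w a = Sum.inr b from hb.symm]; rfl⟩
      refine ⟨B, A, Or.inr ?_⟩
      rw [← p0t_mul, show Perm.sumCongr A B = p0t * w from e, ← mul_assoc, p0t_sq, one_mul]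
  · have hs : ∀ A B : Perm (Fin 4), Perm.sumCongr A B ∈ Cfsg.blockStabilizerS4wr2 := fun A B => by
      rw [blockStabilizerS4wr2, MulAction.mem_stabilizer_iff, Set.smul_set_insert, Set.smul_set_singleton]
      congr 1
      · rw [Set.smul_set_range]; exact A.surjective.range_comp Sum.inl
      · congr 1; rw [Set.smul_set_range]; exact B.surjective.range_comp Sum.inr
    rintro ⟨A, B, rfl | rfl⟩
    · exact hs A B
    · exact mul_mem (hs A B) ht

theorem p0ψ_mem (p : Md) : p0ψ p ∈ Cfsg.blockStabilizerS4wr2 := by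
  obtain ⟨a, b, c, d, e, k, g⟩ := p
  cases g
  · exact p0_mem.2 ⟨_, _, Or.inl (mul_one _)⟩
  · exact p0_mem.2 ⟨_, _, Or.inr rfl⟩

theorem p0_all {w : Perm (Fin 4 ⊕ Fin 4)} (h : w ∈ Cfsg.blockStabilizerS4wr2) :
    ∃ (i j : ℕ) (p : Md), w = p0X ^ i * (p0ψ mt * p0X * (p0ψ mt)⁻¹) ^ j * p0ψ p := by
  have e1 : p0ψ mt * p0X * (p0ψ mt)⁻¹ = Perm.sumCongr 1 p0x := by decide +kernel
  have e2 : ∀ i : Fin 3, p0X ^ (i : ℕ) = Perm.sumCongr (p0x ^ (i : ℕ)) 1 := by decide +kernel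
  have e3 : ∀ i : Fin 3, Perm.sumCongr (1 : Perm (Fin 4)) p0x ^ (i : ℕ) = Perm.sumCongr 1 (p0x ^ (i : ℕ)) := by
    decide +kernel
  obtain ⟨A, B, h⟩ := p0_mem.1 h
  obtain ⟨i, a, b, c, rfl⟩ := p0_dec A
  obtain ⟨j, d, e, k, rfl⟩ := p0_dec B
  rcases h with rfl | rfl
  · refine ⟨i, j, ⟨a, b, c, d, e, k, false⟩, ?_⟩
    rw [e1, e2, e3]
    show _ = _ * (Perm.sumCongr (p0d a b c) (p0d d e k) * 1)
    rw [mul_one, Perm.sumCongr_mul, Perm.sumCongr_mul, mul_one, one_mul]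
  · refine ⟨i, j, ⟨a, b, c, d, e, k, true⟩, ?_⟩
    rw [e1, e2, e3]
    show _ = _ * (Perm.sumCongr (p0d a b c) (p0d d e k) * p0t)
    rw [← mul_assoc, Perm.sumCongr_mul, Perm.sumCongr_mul, mul_one, one_mul]

theorem p0_inj : ∀ p : Md, p0ψ p = 1 → p = 1 := by decide +kernel
theorem p0_x2 : ∀ p ∈ mD2, p0ψ p * p0X = p0X * p0ψ p := by decide +kernel
theorem p0_nA : ∀ p ∈ mA, ∃ q ∈ mA, p0X * p0ψ p * p0X⁻¹ = p0ψ q := by decide +kernel
theorem p0_nA' : ∀ q ∈ mA, ∀ p, p * q * p⁻¹ ∈ mA := by decide +kernel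

variable {G : Type*} [Group G] [Finite G]

theorem exists_fr (T : Sylow 2 G) {M : Subgroup G} (hM : M ∈ Cfsg.maxTwoLocalsContaining (T : Subgroup G))
    (hW : Nonempty (↥M ≃* ↥Cfsg.blockStabilizerS4wr2)) : ∃ (f : Md →* G) (x : G), Fr f x := by
  have := Nat.fact_prime_two
  obtain ⟨e⟩ := hW
  let F : Cfsg.blockStabilizerS4wr2 →* G := M.subtype.comp e.symm.toMonoidHom
  have Fi : Function.Injective F := M.subtype_injective.comp e.symm.injective
  let ψ : Md →* Cfsg.blockStabilizerS4wr2 := p0ψ.codRestrict _ p0ψ_mem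
  let X : Cfsg.blockStabilizerS4wr2 := ⟨p0X, p0_mem.2 ⟨_, _, Or.inl rfl⟩⟩
  let f := F.comp ψ
  have hf : ∀ p, f p = F (ψ p) := fun _ => rfl
  have inj : Function.Injective f := Fi.comp ((injective_iff_map_eq_one ψ).2 fun p hp => p0_inj p (congrArg Subtype.val hp))
  have all : ∀ g ∈ M, ∃ (i j : ℕ) (p : Md), g = F X ^ i * (f mt * F X * (f mt)⁻¹) ^ j * f p := fun g hg => by
    obtain ⟨i, j, p, h⟩ := p0_all (e ⟨g, hg⟩).2
    refine ⟨i, j, p, ?_⟩
    have : e ⟨g, hg⟩ = X ^ i * (ψ mt * X * (ψ mt)⁻¹) ^ j * ψ p := Subtype.ext h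
    simp only [hf, ← map_inv, ← map_mul, ← map_pow]
    rw [map_inv, ← this]
    show g = ((e.symm (e ⟨g, hg⟩) : M) : G)
    rw [e.symm_apply_apply]
  have x3 : F X ^ 3 = 1 := by rw [← map_pow, show X ^ 3 = 1 from Subtype.ext (show p0X ^ 3 = 1 by decide +kernel), map_one]
  have xx : f mt * F X * (f mt)⁻¹ * F X = F X * (f mt * F X * (f mt)⁻¹) := by
    simp only [hf, ← map_inv F, ← map_mul]
    exact congrArg F (Subtype.ext (show p0ψ mt * p0X * (p0ψ mt)⁻¹ * p0X = p0X * (p0ψ mt * p0X * (p0ψ mt)⁻¹) by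
      decide +kernel))
  have pM : IsPGroup 2 Md := IsPGroup.of_card (n := 7) card_Md
  have pf : IsPGroup 2 f.range := pM.of_surjective _ f.rangeRestrict_surjective
  have fM : f.range ≤ M := by rintro _ ⟨p, rfl⟩; exact (e.symm (ψ p)).2
  have nf : ∀ p, f p ∈ N[mA.map f] := fun p => mem_norm_of_cj_le (by
    rintro _ ⟨_, ⟨q, hq, rfl⟩, rfl⟩
    exact ⟨_, p0_nA' q hq p, by rw [map_mul, map_mul, map_inv]; rfl⟩)
  have nx : F X ∈ N[mA.map f] := mem_norm_of_cj_le (by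
    rintro _ ⟨_, ⟨q, hq, rfl⟩, rfl⟩
    obtain ⟨r, hr, h⟩ := p0_nA q hq
    refine ⟨r, hr, ?_⟩
    show f r = F X * f q * (F X)⁻¹
    simp only [hf, ← map_inv F, ← map_mul]
    exact congrArg F (Subtype.ext h.symm))
  have eN : N[mA.map f] = M := hM.1.2 _ ⟨mA.map f, IsPGroup.sub pf (map_le_range f _), fun h => by
    have : f z1 ∈ mA.map f := mem_map_of_mem f (by decide)
    rw [h, mem_bot, ← map_one f, inj.eq_iff] at this
    exact absurd this (by decide), rfl⟩ fun g hg => by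
      obtain ⟨i, j, p, rfl⟩ := all g hg
      exact mul_mem (mul_mem (pow_mem nx i) (pow_mem (mul_mem (mul_mem (nf _) nx) (inv_mem (nf _))) j)) (nf p)
  refine ⟨f, F X, inj, ?_, x3, ?_, ?_, ?_, fun p hp => ?_, xx, fun g hg => all g (eN ▸ hg)⟩
  · obtain ⟨P, hP, le⟩ := Sylow_superset fM pf
    have hT : SylowIn 2 (T : Subgroup G) ⊤ := sylowIn_top T
    have e1 : P ≤ f.range := fun g hg => by
      obtain ⟨i, j, p, rfl⟩ := all g (hP.le hg)
      have h1 : F X ^ i * (f mt * F X * (f mt)⁻¹) ^ j ∈ P := by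
        simpa using mul_mem hg (inv_mem (le ⟨p, rfl⟩))
      have h2 : (F X ^ i * (f mt * F X * (f mt)⁻¹) ^ j) ^ 3 = 1 := by
        rw [((Commute.symm xx).pow_pow i j).mul_pow, ← pow_mul, ← pow_mul, mul_comm i, mul_comm j, pow_mul, pow_mul,
          conj_pow, x3]; simp
      have h3 := p_elt_eq_one (mem_p_elt hP.pi h1)
        ((pnat_odd.2 (show Odd 3 by decide)).of_dvd (orderOf_dvd_of_pow_eq_one h2))
      rw [h3, one_mul]; exact ⟨p, rfl⟩
    exact pHall_of_card_le hT le_top (IsPGroup.pi pf)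
      ((card_Hall_eq (pHall_subl hM.2 le_top hT) hP).le.trans (card_le_of_le e1))
  · simp only [hf, ← map_inv F, ← map_mul]
    exact congrArg F (Subtype.ext (show p0X * p0ψ z1 * p0X⁻¹ = p0ψ v1 by decide +kernel))
  · simp only [hf, ← map_inv F, ← map_mul F]
    exact congrArg F (Subtype.ext (show p0X * p0ψ v1 * p0X⁻¹ = p0ψ (z1 * v1) by decide +kernel))
  · simp only [hf, ← map_inv F, ← map_mul]
    exact congrArg F (Subtype.ext (show p0ψ s1 * p0X * (p0ψ s1)⁻¹ = p0X⁻¹ by decide +kernel))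
  · simp only [hf, ← map_mul]
    exact congrArg F (Subtype.ext (p0_x2 p hp))

end Cfsg.Agent.SW2
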