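import Cfsg.Agent.SW2.A

/-! The elementary abelian subgroups of order 16 of `D₈ ≀ 2` are `A, B, C₁, C₂`. -/

set_option autoImplicit false
set_option linter.unusedSectionVars false

namespace Cfsg.Agent.SW2

open Cfsg.Agent.BG Subgroup

variable {G : Type*} [Group G] [Finite G] {f : Md →* G} {x : G}

theorem card_sub_p1a (K : Subgroup Md) [DecidablePred (· ∈ K)] :
    Nat.card K = (Finset.univ.filter (fun q : Md => q ∈ K)).card := by
  rw [Nat.card_eq_fintype_card, Fintype.card_subtype]

theorem card_big {E : Subgroup Md} (h : Big E) : Nat.card E = 16 := by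
  rcases h with rfl | rfl | rfl | rfl <;> rw [card_sub_p1a] <;> decide +kernel

theorem sq_big {E : Subgroup Md} (h : Big E) : ∀ p ∈ E, p * p = 1 := by
  rcases h with rfl | rfl | rfl | rfl <;> decide +kernel

theorem out_cnt_p1a : ∀ p : Md, p * p = 1 → p.g = true →
    (Finset.univ.filter (fun q : Md => q * q = 1 ∧ (q * p) * (q * p) = 1)).card < 16 := by
  decide +kernel

theorem bc_p1a : ∀ p : Md, p.g = false → p * p = 1 → p.b = true → ∀ q : Md, q.g = false → q * q = 1 → q.c = true →
    (q * p) * (q * p) ≠ 1 := by decide +kernel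

theorem ek_p1a : ∀ p : Md, p.g = false → p * p = 1 → p.e = true → ∀ q : Md, q.g = false → q * q = 1 → q.k = true →
    (q * p) * (q * p) ≠ 1 := by decide +kernel

/-- an elementary abelian subgroup of order 16 of the model is one of the four -/
theorem big_of_card {E : Subgroup Md} (hs : ∀ p ∈ E, p * p = 1) (hc : Nat.card E = 16) : Big E := by
  classical
  have hg : ∀ p ∈ E, p.g = false := fun p hp => by
    by_contra hn
    have h1 := out_cnt_p1a p (hs p hp) (by simpa using hn)
    have h2 : (Finset.univ.filter (fun q : Md => q ∈ E)).card ≤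
        (Finset.univ.filter (fun q : Md => q * q = 1 ∧ (q * p) * (q * p) = 1)).card :=
      Finset.card_le_card fun q hq => by
        simp only [Finset.mem_filter, Finset.mem_univ, true_and] at hq ⊢
        exact ⟨hs q hq, hs _ (mul_mem hq hp)⟩
    rw [← card_sub_p1a, hc] at h2
    omega
  have h1 : (∀ p ∈ E, p.b = false) ∨ (∀ p ∈ E, p.c = false) := by
    by_contra hn
    push Not at hn
    obtain ⟨⟨p, hp, hb⟩, q, hq, hc⟩ := hn
    exact bc_p1a p (hg p hp) (hs p hp) (by simpa using hb) q (hg q hq) (hs q hq) (by simpa using hc) (hs _ (mul_mem hq hp))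
  have h2 : (∀ p ∈ E, p.e = false) ∨ (∀ p ∈ E, p.k = false) := by
    by_contra hn
    push Not at hn
    obtain ⟨⟨p, hp, hb⟩, q, hq, hc⟩ := hn
    exact ek_p1a p (hg p hp) (hs p hp) (by simpa using hb) q (hg q hq) (hs q hq) (by simpa using hc) (hs _ (mul_mem hq hp))
  have key : ∀ K, Big K → E ≤ K → Big E := fun K hK hle => by
    rwa [Subgroup.eq_of_le_of_card_ge hle (by rw [card_big hK, hc])]
  rcases h1 with h1 | h1 <;> rcases h2 with h2 | h2
  · exact key mB (.inr (.inl rfl)) fun p hp => show (!p.g && !p.b && !p.e) = true by simp [hg p hp, h1 p hp, h2 p hp]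
  · exact key mC2 (.inr (.inr (.inr rfl))) fun p hp => show (!p.g && !p.b && !p.k) = true by simp [hg p hp, h1 p hp, h2 p hp]
  · exact key mC1 (.inr (.inr (.inl rfl))) fun p hp => show (!p.g && !p.c && !p.e) = true by simp [hg p hp, h1 p hp, h2 p hp]
  · exact key mA (.inl rfl) fun p hp => show (!p.g && !p.c && !p.k) = true by simp [hg p hp, h1 p hp, h2 p hp]

theorem Fr.f0 (h : Fr f x) : F0 f x := by
  refine ⟨h, fun E hE g hle => ⟨(cj g (E.map f)).comap f, big_of_card (fun p hp => ?_) ?_, (map_comap_eq_self hle).symm⟩⟩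
  · obtain ⟨_, ⟨e, he, rfl⟩, hp⟩ := mem_cj'.1 (mem_comap.1 hp)
    rw [← h.one, map_mul, ← hp]
    calc _ = g * f (e * e) * g⁻¹ := by rw [map_mul]; group
      _ = 1 := by rw [sq_big hE e he, map_one]; group
  · rw [← Subgroup.card_map_of_injective (K := (cj g (E.map f)).comap f) h.inj, map_comap_eq_self hle, card_cj,
      Subgroup.card_map_of_injective h.inj, card_big hE]

end Cfsg.Agent.SW2
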