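import Cfsg.Agent.SW2.A

/-! `S₄ ≀ 2` frame, step 1: `J` is weakly closed and `N(J) = T`; the fusion facts `F1`. -/

set_option autoImplicit false
set_option linter.unusedSectionVars false

namespace Cfsg.Agent.SW2

open Cfsg.Agent.BG Subgroup

variable {G : Type*} [Group G] [Finite G] {f : Md →* G} {x : G}

/-- the four big subgroups, indexed -/
def bigI : Fin 4 → Subgroup Md := ![mA, mB, mC1, mC2]
/-- their Boolean predicates -/
def bigP : Fin 4 → Md → Bool :=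
  ![fun p => !p.g && !p.c && !p.k, fun p => !p.g && !p.b && !p.e, fun p => !p.g && !p.c && !p.e, fun p => !p.g && !p.b && !p.k]
/-- orders of the intersections -/
def bigC : Fin 4 → Fin 4 → ℕ := ![![16, 4, 8, 8], ![4, 16, 8, 8], ![8, 8, 16, 4], ![8, 8, 4, 16]]

theorem mem_bigI (i : Fin 4) (p : Md) : p ∈ bigI i ↔ bigP i p = true := by
  fin_cases i <;> exact Iff.rfl

theorem big_iff {E : Subgroup Md} : Big E ↔ ∃ i, E = bigI i := by
  constructor
  · rintro (h | h | h | h)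
    exacts [⟨0, h⟩, ⟨1, h⟩, ⟨2, h⟩, ⟨3, h⟩]
  · rintro ⟨i, rfl⟩
    fin_cases i
    exacts [Or.inl rfl, Or.inr (Or.inl rfl), Or.inr (Or.inr (Or.inl rfl)), Or.inr (Or.inr (Or.inr rfl))]

theorem card_bigI (i j : Fin 4) : #(bigI i ⊓ bigI j) = bigC i j := by
  have h : ∀ i j : Fin 4, (Finset.univ.filter fun p : Md => (bigP i p && bigP j p) = true).card = bigC i j := by
    decide +kernel
  rw [← h]
  exact Nat.subtype_card _ fun p => by simp [mem_bigI]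

theorem perm4 (σ : Fin 4 → Fin 4) (h : ∀ i j, bigC (σ i) (σ j) = bigC i j) : σ (σ (σ (σ 0))) = 0 := by
  have k : ∀ a b c d : Fin 4, (∀ i j, bigC (![a, b, c, d] i) (![a, b, c, d] j) = bigC i j) →
      ![a, b, c, d] (![a, b, c, d] (![a, b, c, d] a)) = 0 := by decide +kernel
  have e : σ = ![σ 0, σ 1, σ 2, σ 3] := by ext i; fin_cases i <;> rfl
  have := k (σ 0) (σ 1) (σ 2) (σ 3) (e ▸ h)
  rwa [← e] at this

theorem Big.leJ {E : Subgroup Md} (h : Big E) : E ≤ mJ := by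
  obtain ⟨i, rfl⟩ := big_iff.1 h
  intro p hp
  rw [mem_bigI] at hp
  exact (by decide +kernel : ∀ i : Fin 4, ∀ p : Md, bigP i p = true → p ∈ mJ) i p hp

theorem Big.normJ {E : Subgroup Md} (h : Big E) : mJ ≤ N[E] := by
  obtain ⟨i, rfl⟩ := big_iff.1 h
  refine le_norm_iff.2 fun p hp q hq => ?_
  rw [mem_bigI] at hq ⊢
  exact (by decide +kernel : ∀ i : Fin 4, ∀ p : Md, p ∈ mJ → ∀ q : Md, bigP i q = true → bigP i (p * q * p⁻¹) = true) i p hp q hq

theorem mJ_eq : mJ = mA ⊔ mB := by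
  refine le_antisymm (fun p hp => ?_) (sup_le (Big.leJ (Or.inl rfl)) (Big.leJ (Or.inr (Or.inl rfl))))
  have h : ∀ p ∈ mJ, p = (⟨p.a, p.b, false, p.d, p.e, false, false⟩ : Md) * ⟨false, false, p.c, false, false, p.k, false⟩ := by
    decide +kernel
  rw [h p hp]
  exact mul_mem_sup rfl rfl

theorem map_le_norm {E K : Subgroup Md} (h : K ≤ N[E]) : K.map f ≤ N[E.map f] := by
  rintro _ ⟨p, hp, rfl⟩
  rw [mem_norm, ← map_cj, cj_of_norm (h hp)]

theorem F0.wc (h : F0 f x) {g : G} (hg : cj g (mJ.map f) ≤ f.range) : g ∈ N[mJ.map f] := by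
  refine mem_norm_of_cj_le ?_
  have k : ∀ E, Big E → cj g (E.map f) ≤ mJ.map f := fun E hE => by
    obtain ⟨E', hE', e⟩ := h.cjE E hE g ((cj_mono g (map_mono hE.leJ)).trans hg)
    rw [e]; exact map_mono hE'.leJ
  conv_lhs => rw [mJ_eq, Subgroup.map_sup, cj_sup]
  exact sup_le (k _ (Or.inl rfl)) (k _ (Or.inr (Or.inl rfl)))

theorem F0.tJ (h : F0 f x) : f.range ≤ N[mJ.map f] := fun _ hg => h.wc (cj_le_of_mem hg (map_le_range _ _))

theorem Fr.xJ (h : Fr f x) {i : ℕ} {y : G} (hy : y * f s1 = f s1 * y) (hn : x ^ i * y ∈ N[mJ.map f]) : x ^ i ∈ mJ.map f := by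
  have hs : f s1 ∈ mJ.map f := mem_map_of_mem _ (by decide)
  have e1 : f s1 * x ^ i * (f s1)⁻¹ = (x ^ i)⁻¹ := by rw [← conj_pow, h.sx, inv_pow]
  have e2 : x ^ i * y * f s1 * (x ^ i * y)⁻¹ * (f s1)⁻¹ = x ^ i * x ^ i := by
    calc _ = x ^ i * (y * f s1) * y⁻¹ * (x ^ i)⁻¹ * (f s1)⁻¹ := by group
      _ = x ^ i * (f s1 * x ^ i * (f s1)⁻¹)⁻¹ := by rw [hy]; group
      _ = _ := by rw [e1, inv_inv]
  have hm : x ^ i * x ^ i ∈ mJ.map f := e2 ▸ mul_mem (conj_mem_of_norm hn hs) (inv_mem hs)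
  have e3 : x ^ i * x ^ i * (x ^ i * x ^ i) = x ^ i := by
    calc _ = (x ^ 3) ^ i * x ^ i := by group
      _ = _ := by rw [h.x3, one_pow, one_mul]
  exact e3 ▸ mul_mem hm hm

theorem F0.nAJ (h : F0 f x) {m : G} (hA : m ∈ N[mA.map f]) (hJ : m ∈ N[mJ.map f]) : m ∈ f.range := by
  obtain ⟨i, j, p, rfl⟩ := h.nA m hA
  have ht : f mt ∈ N[mJ.map f] := h.tJ ⟨_, rfl⟩
  have h1 : x ^ i * (f mt * x * (f mt)⁻¹) ^ j ∈ N[mJ.map f] := by
    simpa using mul_mem hJ (inv_mem (h.tJ ⟨p, rfl⟩))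
  have c2 : Commute (f mt * x * (f mt)⁻¹) (f s1) := by
    have e : f s1 = f mt * f s2 * (f mt)⁻¹ := by rw [← map_inv, ← map_mul, ← map_mul]; congr 1
    have e' := h.x2 s2 (by decide)
    rw [e]
    calc _ = f mt * (x * f s2) * (f mt)⁻¹ := by group
      _ = f mt * (f s2 * x) * (f mt)⁻¹ := by rw [e']
      _ = _ := by group
  have hi : x ^ i ∈ mJ.map f := h.toFr.xJ (c2.pow_left j).eq h1
  have h2 : (f mt * x * (f mt)⁻¹) ^ j ∈ N[mJ.map f] := by
    simpa using mul_mem (inv_mem (normG _ hi)) h1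
  have h3 : x ^ j * 1 ∈ N[mJ.map f] := by
    have := mul_mem (mul_mem (inv_mem ht) h2) ht
    rw [conj_pow] at this
    simpa [mul_assoc] using this
  have hj : x ^ j ∈ mJ.map f := h.toFr.xJ (by simp) h3
  rw [conj_pow]
  exact mul_mem (mul_mem (map_le_range _ _ hi) (mul_mem (mul_mem ⟨_, rfl⟩ (map_le_range _ _ hj)) (inv_mem ⟨_, rfl⟩))) ⟨_, rfl⟩

theorem F0.pow4 (h : F0 f x) {n : G} (hn : n ∈ N[mJ.map f]) : n ^ 4 ∈ N[mA.map f] := by
  have k : ∀ i, ∃ j, cj n ((bigI i).map f) = (bigI j).map f := fun i => by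
    obtain ⟨E', hE', e⟩ := h.cjE _ (big_iff.2 ⟨i, rfl⟩) n
      ((cj_le_of_norm hn (map_mono (Big.leJ (big_iff.2 ⟨i, rfl⟩)))).trans (map_le_range _ _))
    obtain ⟨j, rfl⟩ := big_iff.1 hE'
    exact ⟨j, e⟩
  choose σ hσ using k
  have hc : ∀ i j, bigC (σ i) (σ j) = bigC i j := fun i j => by
    rw [← card_bigI, ← card_bigI, ← card_map_of_injective (K := bigI i ⊓ bigI j) h.inj,
      ← card_map_of_injective (K := bigI (σ i) ⊓ bigI (σ j)) h.inj, map_inf _ _ _ h.inj, map_inf _ _ _ h.inj,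
      ← hσ, ← hσ, ← cj_inf, card_cj]
  have e : n ^ 4 = n * (n * (n * n)) := by simp only [pow_succ, pow_zero, one_mul, mul_assoc]
  show n ^ 4 ∈ N[(bigI 0).map f]
  rw [mem_norm, e, cj_mul, cj_mul, cj_mul, hσ, hσ, hσ, hσ, perm4 σ hc]

theorem F0.nJ (h : F0 f x) : N[mJ.map f] = f.range := by
  have := Nat.fact_prime_two
  have hp : IsPGroup 2 N[mJ.map f] := fun n => by
    have hm : (n : G) ^ 4 ∈ f.range := h.nAJ (h.pow4 n.2) (pow_mem n.2 4)
    obtain ⟨k, hk⟩ := h.syl.pg ⟨_, hm⟩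
    refine ⟨k + 2, Subtype.ext ?_⟩
    have := congrArg Subtype.val hk
    simp only [SubmonoidClass.mk_pow, OneMemClass.coe_one, ← pow_mul] at this
    simp only [SubmonoidClass.coe_pow, OneMemClass.coe_one]
    rw [← this]; congr 1; ring
  exact Hall_max h.syl h.tJ le_top hp.pi

theorem F0.key (h : F0 f x) (H : Subgroup G) (g : G) (hJ : mJ.map f ≤ H) (hg : cj g (mJ.map f) ≤ H) :
    ∃ c ∈ H, c * g ∈ f.range := by
  have := Nat.fact_prime_two
  have pJ : IsPGroup 2 (mJ.map f) := h.syl.pg.to_le (map_le_range _ _)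
  obtain ⟨P, hP, hJP⟩ := Sylow_superset hJ pJ
  obtain ⟨c, hc, e⟩ := Sylow_Jsub hP hg (pJ.map _)
  obtain ⟨k, -, e'⟩ := Sylow_Jsub h.syl le_top hP.pg
  have hk : k ∈ N[mJ.map f] := h.wc ((cj_mono k hJP).trans e')
  have hk' : k * (c * g) ∈ N[mJ.map f] := h.wc (by rw [cj_mul, cj_mul]; exact (cj_mono k e).trans e')
  refine ⟨c, hc, ?_⟩
  rw [← h.nJ]
  simpa using mul_mem (inv_mem hk) hk'

theorem F0.cjT (h : F0 f x) {E : Subgroup Md} (hE : Big E) {g : G} (hg : cj g (E.map f) ≤ f.range) :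
    ∃ p : Md, cj g (E.map f) = (cj p E).map f := by
  obtain ⟨E', hE', e⟩ := h.cjE E hE g hg
  obtain ⟨c, hc, p, hp⟩ := h.key N[cj g (E.map f)] g (by rw [e]; exact map_le_norm hE'.normJ)
    (by rw [N_cj]; exact cj_mono g (map_le_norm hE.normJ))
  exact ⟨p, by rw [map_cj, hp, cj_mul, cj_of_norm hc]⟩

theorem F0.f1 (h : F0 f x) : F1 f x := by
  have := Nat.fact_prime_two
  have pJ : IsPGroup 2 (mJ.map f) := h.syl.pg.to_le (map_le_range _ _)
  refine ⟨h.toFr, h.key, Sylow_subnorm ?_, ?_, fun g hg => ?_, fun g hg => ?_⟩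
  · have e : C1[f z1] ⊓ N[mJ.map f] = mJ.map f := by
      refine le_antisymm (fun g hg => ?_) (le_inf ?_ (normG _))
      · obtain ⟨p, rfl⟩ := h.nJ ▸ hg.2
        have := mem_cent1.1 hg.1
        rw [← map_mul, ← map_mul, h.toFr.eq] at this
        exact mem_map_of_mem _ ((by decide +kernel : ∀ p : Md, p * z1 = z1 * p → p ∈ mJ) p this)
      · rintro _ ⟨p, hp, rfl⟩
        rw [mem_cent1, ← map_mul, ← map_mul, (by decide +kernel : ∀ p ∈ mJ, p * z1 = z1 * p) p hp]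
    rw [e]
    exact sylow_mk le_rfl pJ (by simp)
  · intro hc
    obtain ⟨g, hg⟩ := isConj_iff.1 hc
    have hz : mJ.map f ≤ C1[f z1] := by
      rintro _ ⟨p, hp, rfl⟩
      rw [mem_cent1, ← map_mul, ← map_mul, (by decide +kernel : ∀ p ∈ mJ, p * z1 = z1 * p) p hp]
    obtain ⟨c, hc, p, hp⟩ := h.key C1[f mz] g ((map_le_range _ _).trans h.toFr.zS)
      (by rw [← hg, C1_conj]; exact cj_mono g hz)
    have e : f (p * z1 * p⁻¹) = f mz := by
      rw [map_mul, map_mul, map_inv, hp]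
      calc _ = c * (g * f z1 * g⁻¹) * c⁻¹ := by group
        _ = _ := by rw [hg, mem_cent1.1 hc]; group
    exact (by decide +kernel : ∀ p : Md, p * z1 * p⁻¹ ≠ mz) p (h.toFr.eq.1 e)
  · obtain ⟨p, e⟩ := h.cjT (Or.inr (Or.inl rfl)) hg
    rw [e]; congr 1
    ext q
    rw [mem_cj]
    exact (by decide +kernel : ∀ p q : Md, p⁻¹ * q * p ∈ mB ↔ q ∈ mB) p q
  · obtain ⟨p, e⟩ := h.cjT (Or.inr (Or.inr (Or.inl rfl))) hg
    rw [e]
    by_cases hp : p ∈ mJ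
    · left; rw [cj_of_norm (Big.normJ (Or.inr (Or.inr (Or.inl rfl))) hp)]
    · right; congr 1
      ext q
      rw [mem_cj]
      exact (by decide +kernel : ∀ p : Md, p ∉ mJ → ∀ q : Md, p⁻¹ * q * p ∈ mC1 ↔ q ∈ mC2) p hp q

end Cfsg.Agent.SW2
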