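import Cfsg.Agent.SW2.A

/-! `S₄ ≀ 2`: characteristic 2 of `C(z)` and the centralizers of `⟨z₁, u, z₂⟩`. -/

set_option autoImplicit false
set_option linter.unusedSectionVars false

namespace Cfsg.Agent.SW2

open Cfsg.Agent.BG Subgroup

variable {G : Type*} [Group G] [Finite G] {f : Md →* G} {x : G}

theorem Fr.chz (h : Fr f x) (hE : Cfsg.IsOfEvenCharacteristic G) : Loc.ChP 2 C1[f mz] := by
  have := Nat.fact_prime_two
  have z2' : f mz * f mz = 1 := by rw [← map_mul, h.one]; decide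
  have z1' : f mz ≠ 1 := by rw [Ne, h.one]; decide
  have e : C1[f mz] = N[zpowers (f mz)] := by
    refine le_antisymm (cent1_le_norm_zpowers _) fun g hg => ?_
    have h1 : g * f mz * g⁻¹ ∈ zpowers (f mz) := (mem_normalizer_iff.1 hg _).1 (mem_zpowers _)
    rcases (Invol.mem_zpowers_invol z2').1 h1 with h2 | h2
    · exact absurd (by simpa using h2) z1'
    · exact mem_cent1.2 (mul_inv_eq_iff_eq_mul.1 h2)
  obtain ⟨S, hS⟩ := sylow_of_sylowIn_top h.syl
  refine Loc.chP_iff.2 (hE _ ⟨zpowers (f mz), Loc.isPGroup_zpowers_of_pow (k := 1) (by rw [pow_one, sq, z2']), ?_, e⟩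
    ⟨S, hS ▸ h.zS⟩)
  exact fun e => z1' (zpowers_eq_bot.1 e)

theorem Fr.ce0 (h : F1 f x) (ch : Loc.ChP 2 C1[f mz]) {E : Subgroup Md} {u : Md} (e1 : z1 ∈ E) (eu : u ∈ E) (e2 : z2 ∈ E)
    (gen : ∀ p ∈ E, p ∈ closure {z1, u, z2}) (sq : ∀ p ∈ E, p * p = 1) (nJ : ∀ q ∈ mJ, ∀ p ∈ E, q * p * q⁻¹ ∈ E)
    (cyc : ∀ p, p * z1 = z1 * p → p * u = u * p → ∀ q, q * z1 = z1 * q → q * u = u * q → (p * p = 1 ↔ q * q = 1) →
      (p ∈ E ↔ q ∈ E) → ∀ r, r * z1 = z1 * r → r * u = u * r → (q * q = 1 ↔ r * r = 1) → (q ∈ E ↔ r ∈ E) →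
      (p⁻¹ * q ∈ E ↔ q⁻¹ * r ∈ E) → p⁻¹ * r ∈ E) :
    C1[f z1] ⊓ C1[f u] ⊓ C1[f z2] ≤ mJ.map f := by
  have := Nat.fact_prime_two
  have hT : Loc.SylIn 2 f.range ⊤ := sylIn_iff.2 h.syl
  have hK : C1[f z1] ⊓ C1[f u] ⊓ C1[f z2] = C[E.map f] := by
    refine le_antisymm (fun g hg => mem_cent.2 ?_) fun g hg => ⟨⟨?_, ?_⟩, ?_⟩
    · rintro _ ⟨p, hp, rfl⟩
      have : closure {z1, u, z2} ≤ C1[g].comap f := by
        rw [closure_le]
        rintro _ (rfl | rfl | rfl)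
        exacts [mem_cent1_comm.1 hg.1.1, mem_cent1_comm.1 hg.1.2, mem_cent1_comm.1 hg.2]
      exact mem_cent1.1 (this (gen p hp))
    all_goals exact mem_cent1.2 (mem_cent.1 hg _ (mem_map_of_mem f ‹_›)).symm
  have hET : E.map f ≤ f.range := map_le_range _ _
  have hKz : C[E.map f] ≤ C1[f mz] := fun g hg =>
    mem_cent1.2 (mem_cent.1 hg _ (mem_map_of_mem f (show mz ∈ E from (by decide : z1 * z2 = mz) ▸ mul_mem e1 e2))).symm
  have hQT : pCoreOf 2 C1[f mz] ≤ f.range := (hT.mono h.zS le_top).pCoreOf_le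
  have hp : IsPGroup 2 C[E.map f] := by
    refine Loc.isPGroup_of_pResidualOf_eq_bot (eq_bot_iff.2 (Loc.pResidualOf_le_iff.2 fun y hy ho => ?_))
    have yN : y ∈ N[pCoreOf 2 C1[f mz]] := Loc.le_normalizer_pCoreOf _ _ (hKz hy)
    have yE : ∀ p ∈ E, y * f p * y⁻¹ = f p := fun p hp => by
      rw [← mem_cent.1 hy _ (mem_map_of_mem f hp), mul_inv_cancel_right]
    have tr : ∀ p q, y * f p * y⁻¹ = f q → (p * p = 1 ↔ q * q = 1) ∧ (p ∈ E ↔ q ∈ E) := by
      intro p q e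
      refine ⟨?_, fun hp => ?_, fun hq => ?_⟩
      · rw [← h.one, ← h.one, map_mul, map_mul, ← e]
        constructor
        · intro e'; calc _ = y * (f p * f p) * y⁻¹ := by group
            _ = 1 := by rw [e']; group
        · intro e'; calc _ = y⁻¹ * (y * f p * y⁻¹ * (y * f p * y⁻¹)) * y := by group
            _ = 1 := by rw [e']; group
      · rwa [← h.eq.1 ((yE p hp).symm.trans e)]
      · have : f p = f q := by simpa using e.trans (yE q hq).symm
        rwa [h.eq.1 this]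
    have st : ∀ a ∈ pCoreOf 2 C1[f mz] ⊓ C[E.map f], y * a * y⁻¹ ∈ pCoreOf 2 C1[f mz] ⊓ C[E.map f] := fun a ha =>
      mem_inf.2 ⟨(mem_normalizer_iff.1 yN _).1 ha.1, mul_mem (mul_mem hy (mem_inf.1 ha).2) (inv_mem hy)⟩
    have cm : ∀ p, f p ∈ C[E.map f] → ∀ w ∈ E, p * w = w * p := fun p hp w hw => by
      rw [← h.eq, map_mul, map_mul, mem_cent.1 hp _ (mem_map_of_mem f hw)]
    have yc : y ∈ C[pCoreOf 2 C1[f mz]] := by
      refine Loc.pxq_mem (p := 2) (E := E.map f) (Loc.isPGroup_pCoreOf _ _)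
        ((hET.trans h.zS).trans (Loc.le_normalizer_pCoreOf _ _)) yN ?_ ?_ ho fun a ha => ?_
      · rw [Loc.pResidualOf_eq_bot_of_isPGroup (hT.pg.to_le hET)]; exact bot_le
      · rw [Subgroup.commutator_comm, commutator_eq_bot_iff_le_centralizer.2 (zpowers_le.2 hy)]; exact bot_le
      · have hb := st a ha
        have hc := st _ hb
        obtain ⟨p, rfl⟩ := hQT ha.1
        obtain ⟨q, eq⟩ := hQT hb.1
        obtain ⟨r, er⟩ := hQT hc.1
        rw [← eq] at er hb hc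
        rw [← er] at hc
        have t1 := tr p q eq.symm
        have t2 := tr q r er.symm
        have t3 := tr (p⁻¹ * q) (q⁻¹ * r) (by
          rw [map_mul, map_mul, map_inv, map_inv, er]
          calc _ = (y * f p * y⁻¹)⁻¹ * (y * f q * y⁻¹) := by group
            _ = _ := by rw [← eq])
        have k := cyc p (cm p ha.2 _ e1) (cm p ha.2 _ eu) q (cm q hb.2 _ e1) (cm q hb.2 _ eu) t1.1 t1.2 r (cm r hc.2 _ e1)
          (cm r hc.2 _ eu) t2.1 t2.2 t3.2
        have k1 : y * y * f p * (y * y)⁻¹ = f p * f (p⁻¹ * r) := by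
          rw [← map_mul, mul_inv_cancel_left, er, eq]; group
        have k2 : y * y * f (p⁻¹ * r) * (y * y)⁻¹ = f (p⁻¹ * r) := by
          calc _ = y * (y * f (p⁻¹ * r) * y⁻¹) * y⁻¹ := by group
            _ = _ := by rw [yE _ k, yE _ k]
        have k4 : y ^ 4 * f p * (y ^ 4)⁻¹ = f p := by
          calc _ = y * y * (y * y * f p * (y * y)⁻¹) * (y * y)⁻¹ := by rw [show y ^ 4 = y * y * (y * y) by simp [pow_succ, mul_assoc]]; group
            _ = y * y * (f p * f (p⁻¹ * r)) * (y * y)⁻¹ := by rw [k1]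
            _ = y * y * f p * (y * y)⁻¹ * (y * y * f (p⁻¹ * r) * (y * y)⁻¹) := by group
            _ = _ := by rw [k1, k2, mul_assoc, ← map_mul, sq _ k, map_one, mul_one]
        have k5 : zpowers (y ^ 4) ≤ C1[f p] := zpowers_le.2 (mem_cent1.2 (mul_inv_eq_iff_eq_mul.1 k4))
        have k6 : y ∈ zpowers (y ^ 4) := mem_zpowers_pow_iff.2 (by
          have : (orderOf y).Coprime (2 ^ 2) := ho.pow_right 2
          exact this.symm)
        rw [C_zpowers]
        exact mem_cent1_comm.1 (k5 k6)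
    obtain ⟨k, hk⟩ := Loc.exists_orderOf_of_isPGroup (Loc.isPGroup_pCoreOf 2 C1[f mz]) (ch ⟨hKz hy, yc⟩)
    rw [mem_bot, ← orderOf_eq_one_iff]
    rw [hk] at ho ⊢
    rcases k with _ | k
    · rfl
    · exact absurd ((Nat.coprime_pow_left_iff k.succ_pos _ _).1 ho) (by decide)
  refine le_trans ?_ ((sylIn_iff.2 h.sylJ).le_of_le_normalizer (Q := C[E.map f]) (hK ▸ inf_le_left.trans inf_le_left) hp
    (Loc.le_normalizer_centralizer ?_))
  · exact hK.le
  · rintro _ ⟨q, hq, rfl⟩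
    refine mem_norm_of_cj_le ?_
    rintro _ ⟨_, ⟨p, hp, rfl⟩, rfl⟩
    refine ⟨q * p * q⁻¹, nJ q hq p hp, by simp⟩

theorem F1.f2 (h : F1 f x) (hE : Cfsg.IsOfEvenCharacteristic G) : F2 f x := by
  have ch := h.toFr.chz hE
  refine ⟨h, ch, ?_⟩
  rintro u (rfl | rfl)
  · refine Fr.ce0 h ch (E := sub (fun p => !p.g && !p.c && !p.e && !p.k) rfl (by decide +kernel)) (by decide) (by decide) (by decide)
      (fun p hp => ?_) (by decide +kernel) (by decide +kernel) (by decide +kernel)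
    obtain ⟨i, j, k, e⟩ : ∃ i j k : Fin 2, p = z1 ^ i.val * v1 ^ j.val * z2 ^ k.val := by revert p; decide +kernel
    rw [e]
    refine mul_mem (mul_mem (pow_mem ?_ _) (pow_mem ?_ _)) (pow_mem ?_ _) <;> exact subset_closure (by simp)
  · refine Fr.ce0 h ch (E := sub (fun p => !p.g && !p.b && !p.e && !p.k) rfl (by decide +kernel)) (by decide) (by decide) (by decide)
      (fun p hp => ?_) (by decide +kernel) (by decide +kernel) (by decide +kernel)
    obtain ⟨i, j, k, e⟩ : ∃ i j k : Fin 2, p = z1 ^ i.val * s1 ^ j.val * z2 ^ k.val := by revert p; decide +kernel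
    rw [e]
    refine mul_mem (mul_mem (pow_mem ?_ _) (pow_mem ?_ _)) (pow_mem ?_ _) <;> exact subset_closure (by simp)

end Cfsg.Agent.SW2
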