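import Cfsg.Agent.SW2.A

/-! Thompson transfer for `s₂` in the frame of `S₄ ≀ 2`. -/

set_option autoImplicit false
set_option linter.unusedSectionVars false

namespace Cfsg.Agent.SW2

open Cfsg.Agent.BG Subgroup

variable {G : Type*} [Group G] [Finite G] {f : Md →* G} {x g : G}

/-- the maximal subgroup missing `s₁, s₂, t` -/
abbrev mR3 : Subgroup Md := sub (fun p => !(p.c ^^ p.k ^^ p.g)) rfl (by decide +kernel)
/-- `C_T(s₂) = D₁ × U₂` -/
abbrev mP3 : Subgroup Md := sub (fun p => !p.g && !p.e) rfl (by decide +kernel)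

theorem cj_map3 (q : Md) {E E' : Subgroup Md} (h : ∀ p, p ∈ E' ↔ q⁻¹ * p * q ∈ E) : cj (f q) (E.map f) = E'.map f := by
  ext a
  rw [mem_cj']
  constructor
  · rintro ⟨_, ⟨p, hp, rfl⟩, rfl⟩
    exact ⟨q * p * q⁻¹, (h _).2 (by rwa [show q⁻¹ * (q * p * q⁻¹) * q = p by group]), by simp only [map_mul, map_inv]⟩
  · rintro ⟨p, hp, rfl⟩
    exact ⟨_, ⟨_, (h p).1 hp, rfl⟩, by simp only [map_mul, map_inv]; group⟩

/-- Thompson transfer into a subgroup of index 2 of the model -/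
theorem Fr.tt (h : Fr f x) (hG : commutator G = ⊤) {K P : Subgroup Md} {y : Md} (hn : ∀ q, ∀ p ∈ K, q * p * q⁻¹ ∈ K)
    (h2 : ∀ p, p ∈ K ∨ y⁻¹ * p ∈ K) (hy : y * y = 1) (yK : y ∉ K) (hP : ∀ p ∈ P, p * y = y * p) :
    ∃ g : G, g * f y * g⁻¹ ∈ K.map f ∧ cj g (P.map f) ≤ f.range := by
  have l1 : K.map f ≤ f.range := map_le_range _ _
  have l2 : f.range ≤ N[K.map f] := le_norm_iff.2 (by
    rintro _ ⟨q, rfl⟩ _ ⟨p, hp, rfl⟩
    exact ⟨_, hn q p hp, by simp only [map_mul, map_inv]⟩)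
  haveI := NormalIn.subgroupOf ⟨l1, l2⟩
  refine Loc.thompson_transfer_cyclic (by
      have := h.syl.not_dvd; rw [relIndex_top_right] at this; exact Nat.not_even_iff_odd.1 fun e => this e.two_dvd)
    (JT2.cyc_quot (T := f.range) (y := f y) ⟨y, rfl⟩ ?_) (by rw [← map_mul, hy, map_one]) ⟨y, rfl⟩ (by rwa [h.mem]) l1 (hG ▸ mem_top _)
    (h.syl.pg.to_le (map_le_range _ _)) ?_
  · rintro _ ⟨p, rfl⟩
    rcases h2 p with e | e
    · exact ⟨0, p, e, by simp⟩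
    · exact ⟨1, _, e, by simp⟩
  · rintro _ ⟨p, hp, rfl⟩
    exact mem_cent1.2 (by rw [← map_mul, ← map_mul, hP p hp])

theorem F1.thomp (h : F1 f x) (hG : commutator G = ⊤) : ∃ g ∈ N[mC1.map f] ⊓ N[mB.map f], g * f z1 * g⁻¹ = f z1 ∧
    (g * f s2 * g⁻¹ = f z2 ∨ g * f s2 * g⁻¹ = f mz) := by
  obtain ⟨g, hg, n1, n2⟩ : ∃ g : G, g * f s2 * g⁻¹ ∈ mR3.map f ∧ g ∈ N[mC1.map f] ∧ g ∈ N[mB.map f] := by
    obtain ⟨g, hg, hP⟩ := h.toFr.tt hG (K := mR3) (P := mP3) (y := s2) (by decide +kernel) (by decide +kernel) (by decide +kernel)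
      (by decide +kernel) (by decide +kernel)
    have eB := h.wcB g ((cj_mono g (map_mono (show ∀ p ∈ mB, p ∈ mP3 by decide +kernel))).trans hP)
    rcases h.wcC g ((cj_mono g (map_mono (show ∀ p ∈ mC1, p ∈ mP3 by decide +kernel))).trans hP) with e | e
    · exact ⟨g, hg, mem_norm.2 e, mem_norm.2 eB⟩
    · refine ⟨f mt * g, ?_, mem_norm.2 ?_, mem_norm.2 ?_⟩
      · rw [← cj_map3 (f := f) mt (E := mR3) (E' := mR3) (by decide +kernel),
          show f mt * g * f s2 * (f mt * g)⁻¹ = f mt * (g * f s2 * g⁻¹) * (f mt)⁻¹ by group]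
        exact conj_mem_cj _ hg
      · rw [cj_mul, e]; exact cj_map3 mt (by decide +kernel)
      · rw [cj_mul, eB]; exact cj_map3 mt (by decide +kernel)
  have ne : ∀ {p q : Md}, f q = g * f p * g⁻¹ → p ≠ 1 → q ≠ 1 := fun {p q} e h1 h2 => by
    rw [h2, map_one, eq_comm, conj_eq_one_iff, h.one] at e; exact h1 e
  obtain ⟨p, hp, ep⟩ := conj_mem_of_norm n1 (show f v1 ∈ mC1.map f from h.mem.2 (by decide))
  obtain ⟨q, hq, eq⟩ := conj_mem_of_norm n2 (show f s1 ∈ mB.map f from h.mem.2 (by decide))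
  have ez : f (p * q * p⁻¹ * q⁻¹) = g * f z1 * g⁻¹ := by
    rw [show z1 = v1 * s1 * v1⁻¹ * s1⁻¹ by decide]; simp only [map_mul, map_inv, ep, eq]; group
  have e1 : g * f z1 * g⁻¹ = f z1 := by
    rw [← ez, (show ∀ p ∈ mC1, ∀ q ∈ mB, p * q * p⁻¹ * q⁻¹ ≠ 1 → p * q * p⁻¹ * q⁻¹ = z1 by decide +kernel) p hp q hq
      (ne ez (by decide))]
  refine ⟨g, ⟨n1, n2⟩, e1, ?_⟩
  obtain ⟨r, hr, er⟩ := hg
  have r1 : r ∈ mC1 := h.mem.1 (er ▸ conj_mem_of_norm n1 (show f s2 ∈ mC1.map f from h.mem.2 (by decide)))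
  have r2 : r ∈ mB := h.mem.1 (er ▸ conj_mem_of_norm n2 (show f s2 ∈ mB.map f from h.mem.2 (by decide)))
  have r3 : r ≠ z1 := fun e => by
    rw [e, ← e1, mul_left_inj, mul_right_inj, h.eq] at er; exact absurd er (by decide)
  rw [← er]
  rcases (show ∀ r ∈ mR3, r ∈ mC1 → r ∈ mB → r ≠ 1 → r ≠ z1 → r = z2 ∨ r = mz by decide +kernel) r hr r1 r2
    (ne er (by decide)) r3 with rfl | rfl
  exacts [.inl rfl, .inr rfl]

end Cfsg.Agent.SW2
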