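import Cfsg.Agent.SW2.A

/-! In the frame of `S₄ ≀ 2`, an element of `N(C₁) ∩ N(B)` fixing `z₁` does not send `s₂` to `z`. -/

set_option autoImplicit false
set_option linter.unusedSectionVars false

namespace Cfsg.Agent.SW2

open Cfsg.Agent.BG Subgroup

variable {G : Type*} [Group G] [Finite G] {f : Md →* G} {x g : G}

theorem Fr.xd_p3b (h : Fr f x) {u : Md} (hu : u ∈ mD2) : x * f u * x⁻¹ = f u := by
  rw [← h.x2 u hu]; group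

theorem Fr.xm_p3b (h : Fr f x) {a b u : Md} (hu : u ∈ mD2) (e : x * f a * x⁻¹ = f b) : x * f (a * u) * x⁻¹ = f (b * u) := by
  rw [map_mul, map_mul, ← e, ← h.xd_p3b hu]
  calc _ = x * f a * x⁻¹ * (x * (x * f u * x⁻¹) * x⁻¹) := by group
    _ = _ := by rw [h.xd_p3b hu, h.xd_p3b hu]

theorem Fr.xzv_p3b (h : Fr f x) : x * f (z1 * v1) * x⁻¹ = f z1 := by
  calc _ = x * f z1 * x⁻¹ * (x * f v1 * x⁻¹) := by rw [map_mul]; group
    _ = _ := by rw [h.xz, h.xv, ← map_mul, show v1 * (z1 * v1) = z1 by decide]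

theorem Fr.xN_p3b (h : Fr f x) : x ∈ N[mC1.map f] := by
  refine mem_norm_of_cj_le ?_
  rintro _ ⟨_, ⟨p, hp, rfl⟩, rfl⟩
  show x * f p * x⁻¹ ∈ _
  obtain ⟨u, hu, h1, h2, h3, h4, e⟩ := (show ∀ p ∈ mC1, ∃ u ∈ mD2, u ∈ mC1 ∧ z1 * u ∈ mC1 ∧ v1 * u ∈ mC1 ∧ z1 * v1 * u ∈ mC1 ∧
    (p = u ∨ p = z1 * u ∨ p = v1 * u ∨ p = z1 * v1 * u) by decide +kernel) p hp
  rcases e with rfl | rfl | rfl | rfl
  · rw [h.xd_p3b hu]; exact h.mem.2 h1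
  · rw [h.xm_p3b hu h.xz]; exact h.mem.2 h3
  · rw [h.xm_p3b hu h.xv]; exact h.mem.2 h4
  · rw [h.xm_p3b hu h.xzv_p3b]; exact h.mem.2 h2

theorem JN_p3b : mJ.map f ≤ N[mC1.map f] := le_norm_iff.2 (by
  rintro _ ⟨q, hq, rfl⟩ _ ⟨p, hp, rfl⟩
  exact ⟨q * p * q⁻¹, (show ∀ q ∈ mJ, ∀ p ∈ mC1, q * p * q⁻¹ ∈ mC1 by decide +kernel) q hq p hp,
    by simp only [map_mul, map_inv]⟩)

/-- `z₂` is not conjugate to `z₁` in `N(C₁)` -/
theorem F1.nk_p3b (h : F1 f x) {k : G} (hk : k ∈ N[mC1.map f]) (e : k * f z2 * k⁻¹ = f z1) : False := by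
  have c1 : mJ.map f ≤ C1[f z1] := by
    rintro _ ⟨p, hp, rfl⟩
    rw [mem_cent1, ← map_mul, ← map_mul, (show ∀ p ∈ mJ, p * z1 = z1 * p by decide +kernel) p hp]
  have c2 : mJ.map f ≤ C1[f z2] := by
    rintro _ ⟨p, hp, rfl⟩
    rw [mem_cent1, ← map_mul, ← map_mul, (show ∀ p ∈ mJ, p * z2 = z2 * p by decide +kernel) p hp]
  obtain ⟨c, hc, τ, hτ⟩ := h.key (N[mC1.map f] ⊓ C1[f z1]) k (le_inf JN_p3b c1)
    (le_inf (cj_le_of_mem hk JN_p3b) (by rw [← e, C1_conj]; exact cj_mono k c2))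
  have e1 : τ * z2 * τ⁻¹ = z1 := by
    rw [← h.eq, map_mul, map_mul, map_inv, hτ]
    calc _ = c * (k * f z2 * k⁻¹) * c⁻¹ := by group
      _ = _ := by rw [e, mem_cent1.1 hc.2]; group
  have e2 : τ * v1 * τ⁻¹ ∈ mC1 := by
    rw [← h.mem, map_mul, map_mul, map_inv, hτ]
    exact conj_mem_of_norm (mul_mem hc.1 hk) (h.mem.2 (by decide))
  exact (show ∀ τ : Md, τ * z2 * τ⁻¹ = z1 → τ * v1 * τ⁻¹ ∉ mC1 by decide +kernel) τ e1 e2

theorem F1.nz (h : F1 f x) (hg : g ∈ N[mC1.map f] ⊓ N[mB.map f]) (e1 : g * f z1 * g⁻¹ = f z1) :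
    g * f s2 * g⁻¹ ≠ f mz := fun e2 => by
  have fc : ∀ q p : Md, f q * f p * (f q)⁻¹ = f (q * p * q⁻¹) := fun q p => by simp only [map_mul, map_inv]
  have e3 : g * f (z1 * s2) * g⁻¹ = f z2 := by
    calc _ = g * f z1 * g⁻¹ * (g * f s2 * g⁻¹) := by rw [map_mul]; group
      _ = _ := by rw [e1, e2, ← map_mul, show z1 * mz = z2 by decide]
  have a2 : IsConj (f z2) (f z1) := isConj_iff.2 ⟨f mt, by rw [fc, show mt * z2 * mt⁻¹ = z1 by decide]⟩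
  have a3 : IsConj (f (z1 * s2)) (f z1) := (isConj_iff.2 ⟨g, e3⟩).trans a2
  have a4 : IsConj (f (z1 * (s2 * z2))) (f z1) :=
    (isConj_iff.2 ⟨f v2, by rw [fc, show v2 * (z1 * (s2 * z2)) * v2⁻¹ = z1 * s2 by decide]⟩).trans a3
  have a1 : IsConj (f (z1 * 1)) (f z1) := by rw [mul_one]
  have ax : ∀ u ∈ mD2, IsConj (f (z1 * u)) (f z1) → IsConj (f (v1 * u)) (f z1) ∧ IsConj (f (z1 * v1 * u)) (f z1) :=
    fun u hu a => ⟨(isConj_iff.2 ⟨x, h.xm_p3b hu h.xz⟩).symm.trans a, (isConj_iff.2 ⟨x, h.xm_p3b hu h.xzv_p3b⟩).trans a⟩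
  obtain ⟨r, hr, er⟩ := conj_mem_of_norm hg.1 (show f (v1 * z2) ∈ mC1.map f from h.mem.2 (by decide))
  have rB : r ∉ mB := fun hb => by
    have := h.mem.2 hb
    rw [er, conj_mem_iff_of_norm hg.2, h.mem] at this
    exact absurd this (by decide)
  have rz : ¬ IsConj (f r) (f z1) := fun a => h.na (a.symm.trans ((isConj_iff.2 ⟨g, er.symm⟩).symm.trans
    (isConj_iff.2 ⟨x, by rw [show mz = z1 * z2 by decide]; exact h.xm_p3b (by decide) h.xz⟩).symm))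
  have hk : g * f v2 * x * g⁻¹ ∈ N[mC1.map f] :=
    mul_mem (mul_mem (mul_mem hg.1 (JN_p3b (h.mem.2 (by decide)))) h.xN_p3b) (inv_mem hg.1)
  have ek : g * f v2 * x * g⁻¹ * f z2 * (g * f v2 * x * g⁻¹)⁻¹ = f (r * mz) := by
    calc _ = g * (f v2 * (x * f (z1 * s2) * x⁻¹) * (f v2)⁻¹) * g⁻¹ := by rw [← e3]; group
      _ = g * f (v1 * z2 * s2) * g⁻¹ := by
        rw [h.xm_p3b (by decide) h.xz, fc, show v2 * (v1 * s2) * v2⁻¹ = v1 * z2 * s2 by decide]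
      _ = g * f (v1 * z2) * g⁻¹ * (g * f s2 * g⁻¹) := by rw [map_mul]; group
      _ = _ := by rw [← er, e2, map_mul]
  rcases (show ∀ r ∈ mC1, r ∉ mB → r = v1 * z2 ∨ r = z1 * v1 * z2 ∨ r = v1 * 1 ∨ r = z1 * v1 * 1 ∨ r = v1 * s2 ∨
    r = z1 * v1 * s2 ∨ r = v1 * (s2 * z2) ∨ r = z1 * v1 * (s2 * z2) by decide +kernel) r hr rB with
    rfl | rfl | rfl | rfl | rfl | rfl | rfl | rfl
  · refine h.nk_p3b (mul_mem h.xN_p3b hk) ?_
    calc _ = x * (g * f v2 * x * g⁻¹ * f z2 * (g * f v2 * x * g⁻¹)⁻¹) * x⁻¹ := by group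
      _ = _ := by rw [ek, show v1 * z2 * mz = z1 * v1 by decide, h.xzv_p3b]
  · refine h.nk_p3b (mul_mem (inv_mem h.xN_p3b) hk) ?_
    calc _ = x⁻¹ * (g * f v2 * x * g⁻¹ * f z2 * (g * f v2 * x * g⁻¹)⁻¹) * x := by group
      _ = _ := by rw [ek, show z1 * v1 * z2 * mz = v1 by decide, ← h.xz]; group
  · exact rz (ax _ (by decide) a1).1
  · exact rz (ax _ (by decide) a1).2
  · exact rz (ax _ (by decide) a3).1
  · exact rz (ax _ (by decide) a3).2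
  · exact rz (ax _ (by decide) a4).1
  · exact rz (ax _ (by decide) a4).2

end Cfsg.Agent.SW2
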