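import Cfsg.Agent.SW2.A

/-! `S₄ ≀ 2`, step P4: the second element `y` of order 3 normalising `C₁`. -/

set_option autoImplicit false
set_option linter.unusedSectionVars false

namespace Cfsg.Agent.SW2

open Cfsg.Agent.BG Subgroup

variable {G : Type*} [Group G] [Finite G] {f : Md →* G} {x y g c : G} {p q r : Md}

theorem F2.p4_c (h : F2 f x) (h1 : c * f z1 * c⁻¹ = f z1) (h2 : c * f v1 * c⁻¹ = f v1) (h3 : c * f z2 * c⁻¹ = f z2)
    (h4 : c * f s2 * c⁻¹ = f s2) : c ∈ mC1.map f := by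
  obtain ⟨p, hp, rfl⟩ := h.ce v1 (Or.inl rfl) (show c ∈ _ from ⟨⟨mem_cent1.2 (mul_inv_eq_iff_eq_mul.1 h1),
    mem_cent1.2 (mul_inv_eq_iff_eq_mul.1 h2)⟩, mem_cent1.2 (mul_inv_eq_iff_eq_mul.1 h3)⟩)
  rw [← map_inv, ← map_mul, ← map_mul, h.toFr.eq] at h2 h4
  refine mem_map_of_mem f ?_
  have : ∀ p ∈ mJ, p * v1 * p⁻¹ = v1 → p * s2 * p⁻¹ = s2 → p ∈ mC1 := by decide +kernel
  exact this p hp h2 h4

theorem F2.cC1 (h : F2 f x) : C[mC1.map f] ≤ mC1.map f := fun c hc => by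
  have : ∀ p ∈ mC1, c * f p * c⁻¹ = f p := fun p hp =>
    mul_inv_eq_iff_eq_mul.2 (mem_cent.1 hc _ (mem_map_of_mem f hp)).symm
  exact h.p4_c (this _ (by decide)) (this _ (by decide)) (this _ (by decide)) (this _ (by decide))

theorem p4_mul {a b : Md} (h1 : g * f p * g⁻¹ = f a) (h2 : g * f q * g⁻¹ = f b) : g * f (p * q) * g⁻¹ = f (a * b) := by
  rw [map_mul, map_mul, ← h1, ← h2]; group

theorem p4_comp {a b : Md} (h1 : g * f p * g⁻¹ = f a) (h2 : c * f a * c⁻¹ = f b) :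
    c * g * f p * (c * g)⁻¹ = f b := by
  rw [← h2, ← h1]; group

theorem p4_f {a : Md} (h : r * p * r⁻¹ = a) : f r * f p * (f r)⁻¹ = f a := by
  rw [← map_inv, ← map_mul, ← map_mul, h]

theorem p4_cj {a : Md} (h : g * f p * g⁻¹ = f a) : IsConj (f p) (f a) := isConj_iff.2 ⟨g, h⟩

theorem Fr.p4_x (h : Fr f x) (hq : q ∈ mD2) : x * f q * x⁻¹ = f q := mul_inv_eq_iff_eq_mul.2 (h.x2 q hq).symm

theorem Fr.p4_w (h : Fr f x) : x * f (z1 * v1) * x⁻¹ = f z1 := by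
  rw [p4_mul h.xz h.xv, show v1 * (z1 * v1) = z1 by decide]

/-- the nine products in `C₁` are conjugate to `z` -/
theorem Fr.p4_beta (h : Fr f x) (e1 : g * f z1 * g⁻¹ = f z1) (e2 : g * f s2 * g⁻¹ = f z2) (hp : p ∈ mC1)
    (h1 : p ∉ mD1) (h2 : p ∉ mD2) : IsConj (f p) (f mz) := by
  have a1 : IsConj (f (z1 * s2)) (f mz) := p4_cj (p4_mul e1 e2)
  have a2 : IsConj (f (z1 * (s2 * z2))) (f mz) := (p4_cj (p4_f (r := v2) (by decide))).trans a1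
  have a3 : ∀ q, q = z2 ∨ q = s2 ∨ q = s2 * z2 → IsConj (f (z1 * q)) (f mz) := by
    rintro q (rfl | rfl | rfl)
    exacts [IsConj.refl _, a1, a2]
  have : ∀ p ∈ mC1, p ∉ mD1 → p ∉ mD2 → ∃ q ∈ mD2, (q = z2 ∨ q = s2 ∨ q = s2 * z2) ∧
      (p = z1 * q ∨ p = v1 * q ∨ p = z1 * v1 * q) := by decide +kernel
  obtain ⟨q, hq, h3, rfl | rfl | rfl⟩ := this p hp h1 h2
  · exact a3 q h3
  · exact (p4_cj (p4_mul h.xz (h.p4_x hq))).symm.trans (a3 q h3)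
  · exact (p4_cj (p4_mul h.p4_w (h.p4_x hq))).trans (a3 q h3)

theorem Fr.p4_cube (h : Fr f x) (hp : p = 1 ∨ p = z1 ∨ p = v1 ∨ p = z1 * v1) : (x * f p) ^ 3 = 1 := by
  have e : ∀ a : G, (x * a) ^ 3 = x * a * x⁻¹ * (x * (x * a * x⁻¹) * x⁻¹) * x ^ 3 * a := fun a => by
    simp only [pow_succ]; group
  rw [e, h.x3, mul_one]
  rcases hp with rfl | rfl | rfl | rfl
  · simp
  · rw [h.xz, h.xv, ← map_mul, ← map_mul, h.one]; decide
  · rw [h.xv, h.p4_w, ← map_mul, ← map_mul, h.one]; decide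
  · rw [h.p4_w, h.xz, ← map_mul, ← map_mul, h.one]; decide

theorem F2.p4_fin (h : F2 f x) (e1 : g * f z1 * g⁻¹ = f z1) (e0 : g * f v1 * g⁻¹ = f v1)
    (e2 : g * f s2 * g⁻¹ = f z2) (e3 : g * f z2 * g⁻¹ = f (s2 * z2)) : ∃ y, Yd f x y := by
  have e4 : g * f (s2 * z2) * g⁻¹ = f s2 := by rw [p4_mul e2 e3, show z2 * (s2 * z2) = s2 by decide]
  obtain ⟨r, hr, er⟩ : g * (g * g) ∈ mC1.map f := h.p4_c (p4_comp (p4_comp e1 e1) e1) (p4_comp (p4_comp e0 e0) e0)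
    (p4_comp (p4_comp e3 e4) e2) (p4_comp (p4_comp e2 e3) e4)
  have ab : ∀ r ∈ mC1, ∀ p ∈ mC1, r * p * r⁻¹ = p := by decide +kernel
  have sq1 : ∀ r ∈ mC1, r * r = 1 := by decide +kernel
  obtain ⟨y, hy⟩ : ∃ y, y = f r * g := ⟨_, rfl⟩
  have y3 : y ^ 3 = 1 := by
    calc y ^ 3 = (f r * f r) * (f r * f r) := by rw [hy, er]; simp only [pow_succ]; group
      _ = 1 := by rw [← map_mul, sq1 r hr, map_one, one_mul]
  have d1 : y * f z1 * y⁻¹ = f z1 := hy ▸ p4_comp e1 (p4_f (ab r hr _ (by decide)))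
  have d0 : y * f v1 * y⁻¹ = f v1 := hy ▸ p4_comp e0 (p4_f (ab r hr _ (by decide)))
  have d2 : y * f s2 * y⁻¹ = f z2 := hy ▸ p4_comp e2 (p4_f (ab r hr _ (by decide)))
  have d3 : y * f z2 * y⁻¹ = f (s2 * z2) := hy ▸ p4_comp e3 (p4_f (ab r hr _ (by decide)))
  have d4 : y * f (s2 * z2) * y⁻¹ = f s2 := hy ▸ p4_comp e4 (p4_f (ab r hr _ (by decide)))
  have iv : ∀ {g : G} {p a : Md}, g * f p * g⁻¹ = f a → g⁻¹ * f a * g⁻¹⁻¹ = f p := fun e => by rw [← e]; group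
  have xs : x * f s2 * x⁻¹ = f s2 := h.toFr.p4_x (by decide)
  have xz : x * f z2 * x⁻¹ = f z2 := h.toFr.p4_x (by decide)
  have xy : x * f (s2 * z2) * x⁻¹ = f (s2 * z2) := h.toFr.p4_x (by decide)
  obtain ⟨u, hu, eu⟩ : x⁻¹ * (y * (x * y⁻¹)) ∈ mC1.map f := h.p4_c
    (p4_comp (p4_comp (p4_comp (iv d1) h.xz) d0) (iv h.xz))
    (p4_comp (p4_comp (p4_comp (iv d0) h.xv) (p4_mul d1 d0)) (iv h.xv))
    (p4_comp (p4_comp (p4_comp (iv d2) xs) d2) (iv xz))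
    (p4_comp (p4_comp (p4_comp (iv d4) xy) d4) (iv xs))
  have : ∀ u ∈ mC1, ∃ q ∈ mD2, q * q = 1 ∧ ∃ p, (p = 1 ∨ p = z1 ∨ p = v1 ∨ p = z1 * v1) ∧ p * q = q * p ∧
      p * p = 1 ∧ u = p * q := by decide +kernel
  obtain ⟨q, hq, q2, p, hp, pq, p2, rfl⟩ := this u hu
  have e5 : y * x * y⁻¹ = x * f p * f q := by rw [mul_assoc x, ← map_mul, eu]; group
  have c1 : Commute (x * f p) (f q) :=
    (show Commute (f q) x from h.x2 q hq).symm.mul_left (by rw [Commute, SemiconjBy, ← map_mul, pq, map_mul])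
  have e6 : f q = 1 := by
    have := congrArg (· ^ 3) e5
    simp only [conj_pow, h.x3, c1.mul_pow, h.toFr.p4_cube hp, mul_one, mul_inv_cancel, one_mul] at this
    rw [this, pow_succ, sq, ← map_mul, q2, map_one, one_mul]
  rw [e6, mul_one] at e5
  have e7 : y * f p * y⁻¹ = f p := by
    rcases hp with rfl | rfl | rfl | rfl
    exacts [by simp, d1, d0, p4_mul d1 d0]
  have e8 : Commute (y * y) x := by
    rw [Commute, SemiconjBy, ← mul_inv_eq_iff_eq_mul]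
    calc y * y * x * (y * y)⁻¹ = y * (y * x * y⁻¹) * y⁻¹ := by group
      _ = y * (x * f p) * y⁻¹ := by rw [e5]
      _ = y * x * y⁻¹ * (y * f p * y⁻¹) := by group
      _ = x := by rw [e5, e7, mul_assoc, ← map_mul, p2, map_one, mul_one]
  refine ⟨y, y3, mul_inv_eq_iff_eq_mul.1 d1, mul_inv_eq_iff_eq_mul.1 d0, ?_, d2, d3⟩
  have := (e8.mul_left e8).eq
  rwa [show y * y * (y * y) = y ^ 3 * y by rw [pow_succ, sq]; simp only [mul_assoc], y3, one_mul] at this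

theorem F2.exists_y (h : F2 f x) (hg : g ∈ N[mC1.map f]) (e1 : g * f z1 * g⁻¹ = f z1)
    (e2 : g * f s2 * g⁻¹ = f z2) : ∃ y, Yd f x y := by
  have al : ∀ p q, g * f p * g⁻¹ = f q → q ∈ mC1 → IsConj (f p) (f z1) → q ≠ 1 ∧ (q ∈ mD1 ∨ q ∈ mD2) := by
    refine fun p q e hq hp => ⟨?_, ?_⟩
    · rintro rfl
      have := hp.symm.trans (p4_cj e)
      rw [map_one, isConj_one_left, h.toFr.one] at this
      exact absurd this (by decide)
    · by_contra hn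
      rw [not_or] at hn
      exact h.na ((hp.symm.trans (p4_cj e)).trans (h.toFr.p4_beta e1 e2 hq hn.1 hn.2))
  obtain ⟨p, hp, ep⟩ := conj_mem_of_norm hg (mem_map_of_mem f (show v1 ∈ mC1 by decide))
  obtain ⟨q, hq, eq⟩ := conj_mem_of_norm hg (mem_map_of_mem f (show z2 ∈ mC1 by decide))
  have a0 : IsConj (f z2) (f z1) := p4_cj (p4_f (r := mt) (by decide))
  have hp' : p = v1 ∨ p = z1 * v1 := by
    have : ∀ p ∈ mC1, p ≠ 1 ∧ (p ∈ mD1 ∨ p ∈ mD2) → z1 * p ≠ 1 ∧ (z1 * p ∈ mD1 ∨ z1 * p ∈ mD2) →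
      p = v1 ∨ p = z1 * v1 := by decide +kernel
    exact this p hp (al _ _ ep.symm hp (p4_cj h.xz).symm)
      (al _ _ (p4_mul e1 ep.symm) (mul_mem (by decide) hp) (p4_cj h.toFr.p4_w))
  have hq' : q = s2 ∨ q = s2 * z2 := by
    have : ∀ p ∈ mC1, p ≠ 1 ∧ (p ∈ mD1 ∨ p ∈ mD2) → z2 * p ≠ 1 ∧ (z2 * p ∈ mD1 ∨ z2 * p ∈ mD2) →
      p = s2 ∨ p = s2 * z2 := by decide +kernel
    exact this q hq (al _ _ eq.symm hq a0) (al _ _ (p4_mul e2 eq.symm) (mul_mem (by decide) hq)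
      (((p4_cj (p4_f (r := v2) (by decide))).trans (p4_cj e2)).trans a0))
  have : ∃ r, r * z1 * r⁻¹ = z1 ∧ r * p * r⁻¹ = v1 ∧ r * z2 * r⁻¹ = z2 ∧ r * q * r⁻¹ = s2 * z2 := by
    rcases hp' with rfl | rfl <;> rcases hq' with rfl | rfl <;> decide +kernel
  obtain ⟨r, r1, r2, r3, r4⟩ := this
  exact h.p4_fin (p4_comp e1 (p4_f r1)) (p4_comp ep.symm (p4_f r2)) (p4_comp e2 (p4_f r3)) (p4_comp eq.symm (p4_f r4))

end Cfsg.Agent.SW2
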