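import Cfsg.Agent.SW2.A

/-! `S₄ ≀ 2`: the subgroups of order 3 of `L = C(V₁⟨x⟩)` are conjugate in `L`. -/

set_option autoImplicit false
set_option linter.unusedSectionVars false

namespace Cfsg.Agent.SW2

open Cfsg.Agent.BG Subgroup

variable {G : Type*} [Group G] [Finite G] {f : Md →* G} {x y : G}

theorem p5a_ab {S : Set G} (hc : ∀ a ∈ S, ∀ b ∈ S, a * b = b * a) (h3 : ∀ a ∈ S, a ^ 3 = 1) :
    ∀ g ∈ closure S, g ^ 3 = 1 := by
  have := isMulCommutative_closure hc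
  intro g hg
  induction hg using closure_induction with
  | mem a ha => exact h3 a ha
  | one => exact one_pow _
  | mul a b ha hb ia ib => rw [Commute.mul_pow (setLike_mul_comm ha hb), ia, ib, one_mul]
  | inv a _ ia => rw [inv_pow, ia, inv_one]

theorem p5a_pg {A : Subgroup G} (h : ∀ g ∈ A, g ^ 3 = 1) : IsPGroup 3 A := fun g =>
  ⟨1, Subtype.ext (by simpa using h g g.2)⟩

theorem p5a_zp {a b : G} (a3 : a ^ 3 = 1) (h : b ∈ zpowers a) (b1 : b ≠ 1) : b = a ∨ b = a⁻¹ := by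
  rw [← mem_powers_iff_mem_zpowers] at h
  obtain ⟨n, rfl⟩ := h
  dsimp only at b1 ⊢
  rw [pow_eq_pow_mod n a3] at b1 ⊢
  have : n % 3 = 0 ∨ n % 3 = 1 ∨ n % 3 = 2 := by omega
  rcases this with e | e | e <;> rw [e] at b1 ⊢
  · exact absurd (pow_zero a) b1
  · exact Or.inl (pow_one a)
  · exact Or.inr (eq_inv_of_mul_eq_one_left (by rw [← pow_succ]; exact a3))

theorem Fr.noE9 (h : Fr f x) (hQ : Cfsg.IsQuasithin G) {a b : G} (ha : a ∈ cL f x) (hb : b ∈ cL f x)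
    (a3 : a ^ 3 = 1) (b3 : b ^ 3 = 1) (a1 : a ≠ 1) (b1 : b ≠ 1) (ab : a * b = b * a) : b = a ∨ b = a⁻¹ := by
  have := Nat.fact_prime_two
  have := Nat.fact_prime_three
  refine p5a_zp a3 ?_ b1
  by_contra hn
  set V : Subgroup G := closure {f z1, f v1} with hV
  have zV : f z1 ∈ V := subset_closure (by simp)
  have vV : f v1 ∈ V := subset_closure (by simp)
  have hl : Cfsg.IsTwoLocal N[V] := ⟨V, h.syl.pg.to_le (by
    rw [hV, closure_le]; rintro _ (rfl | rfl) <;> exact ⟨_, rfl⟩), fun e => by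
      rw [e, mem_bot, h.one] at zV; exact absurd zV (by decide), rfl⟩
  have LN : cL f x ≤ N[V] := fun g hg => cent_sub V (by
    rw [hV, centralizer_closure, mem_centralizer_iff]
    rintro _ (rfl | rfl)
    · exact (mem_cent1.1 hg.1.1).symm
    · exact (mem_cent1.1 hg.1.2).symm)
  have xN : x ∈ N[V] := mem_norm_of_cj_le (by
    rw [hV, cj_closure, closure_le]
    rintro _ ⟨_, rfl | rfl, rfl⟩
    · dsimp only; rw [h.xz]; exact vV
    · dsimp only; rw [h.xv, map_mul]; exact mul_mem zV vV)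
  have ax : a * x = x * a := mem_cent1.1 ha.2
  have bx : b * x = x * b := mem_cent1.1 hb.2
  have c3 : ∀ s ∈ ({a, b, x} : Set G), ∀ t ∈ ({a, b, x} : Set G), s * t = t * s := by
    rintro _ (rfl | rfl | rfl) _ (rfl | rfl | rfl) <;> first | rfl | assumption | exact Eq.symm ‹_›
  have e3 := p5a_ab c3 (by rintro _ (rfl | rfl | rfl); exacts [a3, b3, h.x3])
  have cE := isMulCommutative_closure c3
  set E : Subgroup G := closure {a, b, x} with hE
  have EN : E ≤ N[V] := by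
    rw [hE, closure_le]; rintro _ (rfl | rfl | rfl); exacts [LN ha, LN hb, xN]
  have h9 := hQ 3 Nat.prime_three (by decide) _ hl (E.subgroupOf N[V])
    ⟨⟨fun s t => Subtype.ext (Subtype.ext (setLike_mul_comm (s := E) s.2 t.2))⟩⟩
    fun s hs => Subtype.ext (e3 _ hs)
  rw [Nat.card_congr (subgroupOfEquivOfLe EN).toEquiv] at h9
  have aE : a ∈ E := subset_closure (by simp)
  have bE : b ∈ E := subset_closure (by simp)
  have xE : x ∈ E := subset_closure (by simp)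
  have l1 : zpowers a < E ⊓ C1[f v1] := lt_of_le_of_ne (zpowers_le.2 ⟨aE, ha.1.2⟩) fun e =>
    hn (e ▸ (⟨bE, hb.1.2⟩ : b ∈ E ⊓ C1[f v1]))
  have l2 : E ⊓ C1[f v1] < E := lt_of_le_of_ne inf_le_left fun e => by
    have hx : x ∈ E ⊓ C1[f v1] := e.symm ▸ xE
    have e2 := h.xv
    rw [mem_cent1.1 hx.2, mul_inv_cancel_right, h.eq] at e2
    exact absurd e2 (by decide)
  have k1 := proper_card l1
  have k2 := proper_card l2
  rw [Nat.card_zpowers, orderOf_eq_prime a3 a1] at k1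
  obtain ⟨k, hk⟩ := (IsPGroup.iff_card (p := 3)).1 ((p5a_pg e3).to_inf_left (K := C1[f v1]))
  rw [hk] at k1 k2
  have : 1 < k := (Nat.pow_lt_pow_iff_right (by decide : 1 < 3)).1 (by simpa using k1)
  have := Nat.pow_le_pow_right (by decide : 0 < 3) this
  omega

theorem Fr.x2L (h : Fr f x) : f mt * x * (f mt)⁻¹ ∈ cL f x := by
  have k : ∀ p q : Md, q ∈ mD2 → p * mt = mt * q → f mt * x * (f mt)⁻¹ ∈ C1[f p] := fun p q hq e => by
    have e1 : f p = f mt * f q * (f mt)⁻¹ := by rw [← map_mul, ← e, map_mul, mul_inv_cancel_right]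
    rw [mem_cent1, e1]
    calc _ = f mt * (x * f q) * (f mt)⁻¹ := by group
      _ = _ := by rw [← h.x2 q hq]; group
  exact ⟨⟨k z1 z2 (by decide) (by decide), k v1 v2 (by decide) (by decide)⟩, mem_cent1.2 h.xx⟩

theorem Fr.three (h : Fr f x) (hQ : Cfsg.IsQuasithin G) (hy : y ∈ cL f x) (y3 : y ^ 3 = 1) (y1 : y ≠ 1) :
    ∃ l ∈ cL f x, l * (f mt * x * (f mt)⁻¹) * l⁻¹ = y ∨ l * (f mt * x * (f mt)⁻¹) * l⁻¹ = y⁻¹ := by
  have := Nat.fact_prime_three
  have zp : ∀ a : G, a ^ 3 = 1 → IsPGroup 3 (zpowers a) := fun a a3 => p5a_pg (by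
    rintro _ ⟨n, rfl⟩; dsimp only; rw [← zpow_natCast, ← zpow_mul, mul_comm, zpow_mul, zpow_natCast, a3, one_zpow])
  obtain ⟨P, hP, yP⟩ := Sylow_superset (zpowers_le.2 hy) (zp y y3)
  replace yP := zpowers_le.1 yP
  have w3 : (f mt * x * (f mt)⁻¹) ^ 3 = 1 := by rw [conj_pow, h.x3]; group
  obtain ⟨l, hl, wl⟩ := Sylow_Jsub hP (zpowers_le.2 h.x2L) (zp _ w3)
  rw [cj_zpowers, zpowers_le] at wl
  have P1 : P ≠ ⊥ := fun e => y1 (by rwa [e, mem_bot] at yP)
  obtain ⟨c, hc, oc⟩ := Cauchy Nat.prime_three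
    (pgroup_pdiv (hP.pg.to_inf_left) (center_nil_ne_bot (pgroup_nil hP.pg) P1))
  have c3 : c ^ 3 = 1 := oc ▸ pow_orderOf_eq_one c
  have c1 : c ≠ 1 := fun e => by rw [e, orderOf_one] at oc; exact absurd oc (by decide)
  have k1 := h.noE9 hQ (hP.le hc.1) hy c3 y3 c1 y1 (mem_cent.1 hc.2 _ yP).symm
  have k2 := h.noE9 hQ (hP.le hc.1) (hP.le wl) c3 (by rw [conj_pow, w3]; group) c1
    (fun e => h.x1 (by
      calc x = (l * f mt)⁻¹ * (l * (f mt * x * (f mt)⁻¹) * l⁻¹) * (l * f mt) := by group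
        _ = 1 := by rw [e]; group)) (mem_cent.1 hc.2 _ wl).symm
  refine ⟨l, hl, ?_⟩
  rcases k1 with e | e <;> rcases k2 with e' | e' <;> rw [e', e] <;> simp

end Cfsg.Agent.SW2
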