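import Cfsg.Agent.SW2.A

/-! `S₄ ≀ 2`: the second element of order 3 centralizes `s₁`. -/

set_option autoImplicit false
set_option linter.unusedSectionVars false

namespace Cfsg.Agent.SW2

open Cfsg.Agent.BG Subgroup

variable {G : Type*} [Group G] [Finite G] {f : Md →* G} {x y g a b : G} {p q : Md}

theorem p5_inv (a2 : a * a = 1) (b2 : b * b = 1) (n : ¬ IsConj b a) : ∃ k : ℕ, (a * b) ^ k ≠ 1 ∧
    (a * b) ^ k * (a * b) ^ k = 1 := by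
  have o := pow_orderOf_eq_one (a * b)
  rcases Nat.even_or_odd (orderOf (a * b)) with ⟨k, e⟩ | ⟨k, e⟩
  · have := orderOf_pos (a * b)
    exact ⟨k, pow_ne_one_of_lt_orderOf (by omega) (by omega), by rw [← pow_add, ← e, o]⟩
  · refine (n (isConj_iff.2 ⟨(a * b) ^ (k + 1), ?_⟩)).elim
    have e1 : b * (a * b) * b⁻¹ = (a * b)⁻¹ := by
      rw [mul_inv_rev, inv_eq_of_mul_eq_one_right a2, ← mul_assoc, mul_inv_cancel_right, inv_eq_of_mul_eq_one_right b2]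
    have e2 : b * ((a * b) ^ (k + 1))⁻¹ = (a * b) ^ (k + 1) * b := by
      rw [← inv_pow, ← mul_inv_eq_iff_eq_mul, ← conj_pow, ← conj_inv, e1, inv_inv]
    rw [mul_assoc, e2, ← mul_assoc, ← pow_add, show k + 1 + (k + 1) = 2 * k + 1 + 1 by ring, ← e, pow_succ, o, one_mul,
      mul_assoc, b2, mul_one]

theorem p5_cj (e : p * q * p⁻¹ = q) : f p * f q = f q * f p := by
  rw [← map_mul, ← map_mul, mul_inv_eq_iff_eq_mul.1 e]

theorem p5_c (p q r : Md) (e : p * q * p⁻¹ = r := by decide) : f p * f q * (f p)⁻¹ = f r := by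
  rw [← map_inv, ← map_mul, ← map_mul, e]

theorem p5_d (p q r : Md) (e : p⁻¹ * q * p⁻¹⁻¹ = r := by decide) : (f p)⁻¹ * f q * (f p)⁻¹⁻¹ = f r := by
  rw [← map_inv]; exact p5_c _ _ _ e

theorem F2.p5L (h : F2 f x) (hg : g ∈ cL f x) (e : g * f z2 = f z2 * g) : ∃ p ∈ mD2, f p = g := by
  obtain ⟨p, hp, rfl⟩ := h.ce v1 (.inl rfl) ⟨hg.1, mem_cent1.2 e⟩
  have e1 := mem_cent1.1 hg.1.2
  rw [← map_mul, ← map_mul, h.eq] at e1
  obtain ⟨r, hr, e2⟩ := (by decide +kernel : ∀ p ∈ mJ, p * v1 = v1 * p → ∃ r ∈ mD2,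
    p = r ∨ p = z1 * r ∨ p = v1 * r ∨ p = z1 * v1 * r) p hp e1
  have k : ∀ q, p = q * r → x * f q * x⁻¹ = f q := fun q e => by
    have := mem_cent1.1 hg.2
    rw [e, map_mul, mul_assoc, h.x2 r hr, ← mul_assoc, ← mul_assoc, mul_left_inj] at this
    rw [← this, mul_inv_cancel_right]
  rcases e2 with e2 | e2 | e2 | e2
  · exact ⟨r, hr, e2 ▸ rfl⟩
  · exact absurd (h.eq.1 (h.xz.symm.trans (k _ e2))) (by decide)
  · exact absurd (h.eq.1 (h.xv.symm.trans (k _ e2))) (by decide)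
  · have := k _ e2
    rw [map_mul, ← conj_mul, h.xz, h.xv, ← map_mul, ← map_mul, h.eq] at this
    exact absurd this (by decide)

theorem F2.p5U (h : F2 f x) (hg : g ∈ cL f x) (e : g * f z2 * g⁻¹ = f z2) (e' : g * f s2 * g⁻¹ = f s2) :
    ∃ p, f p = g ∧ (p = 1 ∨ p = z2 ∨ p = s2 ∨ p = s2 * z2) := by
  obtain ⟨p, hp, rfl⟩ := h.p5L hg (mul_inv_eq_iff_eq_mul.1 e)
  rw [← map_inv, ← map_mul, ← map_mul, h.eq] at e'
  refine ⟨p, rfl, ?_⟩
  clear hg e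
  revert p; decide +kernel

theorem F2.ys1 (h : F2 f x) (hy : Yd f x y) (h3 : ∃ l ∈ cL f x, l * (f mt * x * (f mt)⁻¹) * l⁻¹ = y ∨
    l * (f mt * x * (f mt)⁻¹) * l⁻¹ = y⁻¹) : y * f s1 = f s1 * y := by
  have := Nat.fact_prime_two
  obtain ⟨l, hl, h3⟩ := h3
  have yL : y ∈ cL f x := ⟨⟨mem_cent1.2 hy.yz, mem_cent1.2 hy.yv⟩, mem_cent1.2 hy.yx⟩
  have DL : ∀ p ∈ mD2, f p ∈ cL f x := fun p hp => ⟨⟨mem_cent1.2 (p5_cj (by revert p; decide +kernel)),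
    mem_cent1.2 (p5_cj (by revert p; decide +kernel))⟩, mem_cent1.2 (h.x2 p hp)⟩
  have x1 : ∀ p ∈ mD1, f mt * x * (f mt)⁻¹ ∈ C1[f p] := fun p hp => mem_cent1.2 (by
    have := h.x2 (mt⁻¹ * p * mt) (by revert p; decide +kernel)
    rw [map_mul, map_mul, map_inv] at this
    rw [show f p * (f mt * x * (f mt)⁻¹) = f mt * ((f mt)⁻¹ * f p * f mt * x) * (f mt)⁻¹ by group, this]; group)
  have xL : f mt * x * (f mt)⁻¹ ∈ cL f x := ⟨⟨x1 _ (by decide), x1 _ (by decide)⟩, mem_cent1.2 h.xx⟩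
  have sL : ∀ g ∈ cL f x, f s1 * g * (f s1)⁻¹ ∈ cL f x := fun g hg => by
    have k : ∀ u ∈ C1[g], f s1 * g * (f s1)⁻¹ ∈ C1[f s1 * u * (f s1)⁻¹] := fun u hu => by
      rw [mem_cent1, conj_mul, conj_mul, mem_cent1.1 hu]
    have a1 := mem_cent1_comm.1 hg.1.1
    have a2 := mem_cent1_comm.1 hg.1.2
    refine ⟨⟨p5_c (f := f) s1 z1 z1 ▸ k _ a1, p5_c (f := f) s1 (z1 * v1) v1 ▸ k _ (map_mul f _ _ ▸ mul_mem a1 a2)⟩, ?_⟩
    have a3 : x ∈ C1[g] := mem_cent1_comm.1 hg.2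
    have := k _ (inv_mem a3)
    rwa [← conj_inv, h.sx, inv_inv] at this
  have ys3 : y * f (s2 * z2) * y⁻¹ = f s2 := by rw [map_mul, ← conj_mul, hy.ys, hy.yz2, ← map_mul]; rfl
  have yi : ∀ {a b}, y * a * y⁻¹ = b → y⁻¹ * b * y⁻¹⁻¹ = a := fun e => by rw [← e]; group
  have cm : ∀ a b c : G, a * b * c * (a * b)⁻¹ = a * (b * c * b⁻¹) * a⁻¹ := fun a b c => by group
  obtain ⟨w, u1, hw⟩ := h.p5U (mul_mem (sL y yL) (inv_mem yL))
    (by rw [cm, yi hy.ys, cm, p5_d s1 s2 s2, cm, hy.ys, p5_c s1 z2 z2])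
    (by rw [cm, yi ys3, cm, p5_d s1 _ (s2 * z2), cm, ys3, p5_c s1 s2 s2])
  have vL := DL v2 (by decide)
  obtain ⟨w2, u2, hw2⟩ := h.p5U (mul_mem (mul_mem (mul_mem vL yL) (inv_mem vL)) yL)
    (by rw [cm, hy.yz2, cm, p5_d v2 _ s2, cm, hy.ys, p5_c v2 z2 z2])
    (by rw [cm, hy.ys, cm, p5_d v2 _ z2, cm, hy.yz2, p5_c v2 _ s2])
  have u3 : y * f (v2 * w * v2⁻¹) * y⁻¹ = f w⁻¹ := by
    have a1 : f s1 * f w2 * (f s1)⁻¹ = f w2 := p5_c _ _ _ (by rcases hw2 with rfl | rfl | rfl | rfl <;> decide)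
    have a2 : f w2 * f (v2 * w * v2⁻¹) = f (v2 * w * v2⁻¹) * f w2 := p5_cj (by
      rcases hw2 with rfl | rfl | rfl | rfl <;> rcases hw with rfl | rfl | rfl | rfl <;> decide)
    have a3 : f v2 * f s1 * (f v2)⁻¹ = f s1 := p5_c _ _ _
    have a4 : f (v2 * w * v2⁻¹) * f w2 * y⁻¹ = f w2 * y⁻¹ * (f w)⁻¹ :=
      calc _ = f v2 * f s1 * (f v2)⁻¹ * (f v2 * y * (f v2)⁻¹) * (f v2 * f s1 * (f v2)⁻¹)⁻¹ := by
            rw [map_mul, map_mul, map_inv, u1, u2]; group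
        _ = f s1 * f w2 * (f s1)⁻¹ * y⁻¹ * (f w)⁻¹ := by rw [a3, u1, u2]; group
        _ = _ := by rw [a1]
    rw [← a2, mul_assoc (f w2), mul_assoc (f w2), mul_right_inj] at a4
    rw [mul_assoc, a4, map_inv, mul_inv_cancel_left]
  rcases hw with rfl | rfl | rfl | rfl
  · rw [map_one, eq_comm, mul_inv_eq_one, mul_inv_eq_iff_eq_mul] at u1
    exact u1.symm
  · exact absurd (h.eq.1 (hy.yz2.symm.trans u3)) (by decide)
  swap
  · exact absurd (h.eq.1 (hy.ys.symm.trans u3)) (by decide)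
  exfalso
  have b1 : f (s1 * z2) ∈ C1[y] := mem_cent1.2 (by
    rw [← mul_inv_eq_iff_eq_mul, show s1 * z2 = z2 * s1 by decide, map_mul, cm,
      show f s1 * y * (f s1)⁻¹ = f s2 * y by rw [u1]; group,
      show f z2 * (f s2 * y) * (f z2)⁻¹ = f z2 * f s2 * (y * f z2 * y⁻¹)⁻¹ * y by group, hy.yz2, ← map_inv, ← map_mul,
      ← map_mul, show z2 * s2 * (s2 * z2)⁻¹ = 1 by decide, map_one, one_mul])
  have a1 : l * f s1 * l⁻¹ ∈ C1[y] := by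
    have := mem_cent1.1 (x1 s1 (by decide))
    have e : l * (f mt * x * (f mt)⁻¹) * l⁻¹ ∈ C1[l * f s1 * l⁻¹] := by rw [mem_cent1, conj_mul, conj_mul, this]
    rw [mem_cent1_comm]
    rcases h3 with e' | e'
    · exact e' ▸ e
    · exact inv_mem_iff.1 (e' ▸ e)
  have abL : l * f s1 * l⁻¹ * f (s1 * z2) ∈ cL f x := by
    have := mul_mem (mul_mem hl (sL _ (inv_mem hl))) (DL z2 (by decide))
    rwa [show (f s1)⁻¹ = f s1 by rw [← map_inv]; rfl, mul_assoc, mul_assoc, ← map_mul, ← mul_assoc, ← mul_assoc] at this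
  obtain ⟨k, k1, k2⟩ := p5_inv (a := l * f s1 * l⁻¹) (b := f (s1 * z2))
    (by rw [conj_mul, ← map_mul, show s1 * s1 = 1 by decide, map_one, mul_one, mul_inv_cancel])
    (by rw [← map_mul]; exact h.one.2 (by decide)) fun c => h.na (by
      have c1 : IsConj (f s1) (f z1) := ((isConj_iff.2 ⟨_, p5_c mt s1 s2⟩).trans (isConj_iff.2 ⟨_, hy.ys⟩)).trans
        (isConj_iff.2 ⟨_, p5_c mt z2 z1⟩)
      have c2 : IsConj (f (s1 * z2)) (f mz) := (isConj_iff.2 ⟨_, p5_c mt _ (z1 * s2)⟩).trans (isConj_iff.2 ⟨y, by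
        rw [map_mul, ← conj_mul, hy.ys, hy.yz, mul_inv_cancel_right, ← map_mul]; rfl⟩)
      exact (c1.symm.trans ((isConj_iff.2 ⟨l, rfl⟩).trans c.symm)).trans c2)
  have iL := pow_mem abL k
  have iy := pow_mem (mul_mem a1 b1) k
  generalize (l * f s1 * l⁻¹ * f (s1 * z2)) ^ k = i at k1 k2 iL iy
  have sy : SylowIn 2 (mD2.map f) (cL f x) := Sylow_subnorm (by
    rw [show cL f x ⊓ N[mD2.map f] = mD2.map f from le_antisymm (fun g hg => ?_)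
      (le_inf (by rintro _ ⟨p, hp, rfl⟩; exact DL p hp) (normG _))]
    · exact pHall_id (h.syl.pg.to_le (map_le_range _ _)).pi
    obtain ⟨a, ha, ea⟩ := conj_mem_of_norm hg.2 (h.mem.2 (by decide : v2 ∈ mD2))
    obtain ⟨b, hb, eb⟩ := conj_mem_of_norm hg.2 (h.mem.2 (by decide : s2 ∈ mD2))
    have e : g * f z2 * g⁻¹ = f (a * b * a⁻¹ * b⁻¹) := by
      rw [show z2 = v2 * s2 * v2⁻¹ * s2⁻¹ by decide]
      simp only [map_mul, map_inv, ea, eb]; group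
    rcases (by decide +kernel : ∀ a ∈ mD2, ∀ b ∈ mD2, a * b * a⁻¹ * b⁻¹ = 1 ∨ a * b * a⁻¹ * b⁻¹ = z2) a ha b hb
      with e' | e' <;> rw [e'] at e
    · rw [map_one, mul_inv_eq_one, mul_eq_left, h.one] at e
      exact absurd e (by decide)
    · exact h.p5L hg.1 (mul_inv_eq_iff_eq_mul.1 e))
  obtain ⟨c, hc, e⟩ := Sylow_Jsub sy (zpowers_le.2 iL) (JT2.pg_of_sq k2)
  obtain ⟨q, hq, eq⟩ := e (conj_mem_cj c (mem_zpowers i))
  have q2 : q * q = 1 := h.one.1 (by rw [map_mul, eq, conj_mul, k2, mul_one, mul_inv_cancel])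
  have q1 : q ≠ 1 := fun e => k1 (by rwa [e, map_one, eq_comm, mul_inv_eq_one, mul_eq_left] at eq)
  have xz : f mt * x * (f mt)⁻¹ * f z2 * (f mt * x * (f mt)⁻¹)⁻¹ = f v2 := by
    rw [cm, p5_d mt z2 z1, cm, h.xz, p5_c mt v1 v2]
  have xv : f mt * x * (f mt)⁻¹ * f v2 * (f mt * x * (f mt)⁻¹)⁻¹ = f (z2 * v2) := by
    rw [cm, p5_d mt v2 v1, cm, h.xv, p5_c mt _ (z2 * v2)]
  obtain ⟨m, hm, em⟩ : ∃ m ∈ cL f x, m * f q * m⁻¹ = f z2 := by
    rcases (by decide +kernel : ∀ q ∈ mD2, q * q = 1 → q ≠ 1 → q = z2 ∨ q = v2 ∨ q = z2 * v2 ∨ q = s2 ∨ q = s2 * z2)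
      q hq q2 q1 with rfl | rfl | rfl | rfl | rfl
    · exact ⟨1, one_mem _, by simp⟩
    · exact ⟨_, inv_mem xL, by rw [← xz]; group⟩
    · exact ⟨_, xL, by rw [map_mul, ← conj_mul, xz, xv, ← map_mul]; rfl⟩
    · exact ⟨_, yL, hy.ys⟩
    · exact ⟨_, inv_mem yL, yi hy.yz2⟩
  obtain ⟨p, hp, ep⟩ := h.p5L (mul_mem (mul_mem (mul_mem hm hc) yL) (inv_mem (mul_mem hm hc))) (by
    rw [← em, eq, ← cm, conj_mul, conj_mul, mem_cent1.1 iy])
  have p1 : p = 1 := (by decide +kernel : ∀ p : Md, p * p * p = 1 → p = 1) p (h.one.1 (by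
    rw [map_mul, map_mul, ep, conj_mul, conj_mul, ← pow_three', hy.y3, mul_one, mul_inv_cancel]))
  rw [p1, map_one, eq_comm, mul_inv_eq_one, mul_eq_left] at ep
  have := hy.ys
  rw [ep, one_mul, inv_one, mul_one, h.eq] at this
  exact absurd this (by decide)

end Cfsg.Agent.SW2
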