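import Cfsg.Agent.SW2.A

/-! `S₄ ≀ 2`, step 6: the fusion of the involutions of `J` and the element `w = y₁ y` of `C(t)`. -/

set_option autoImplicit false
set_option linter.unusedSectionVars false

namespace Cfsg.Agent.SW2

open Cfsg.Agent.BG Subgroup

variable {G : Type*} [Group G] [Finite G] {f : Md →* G} {x y : G}

/-- the action of `y` on `B` -/
def sigP6 (b : Md) : Md := ⟨b.a, false, b.c, b.d ^^ b.k, false, b.d, false⟩

theorem cmP6 {H : Type*} [Group H] {a b u u' : H} (h1 : b * u' * b⁻¹ = u) (h2 : a * u' = u' * a) (h3 : a * u = u * a) :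
    a * b * a⁻¹ * b⁻¹ * u = u * (a * b * a⁻¹ * b⁻¹) := by
  have e : a⁻¹ * u' = u' * a⁻¹ := (show Commute a u' from h2).inv_left.eq
  calc a * b * a⁻¹ * b⁻¹ * u = a * b * (a⁻¹ * u') * b⁻¹ := by rw [← h1]; group
    _ = a * (b * u' * b⁻¹) * (b * a⁻¹ * b⁻¹) := by rw [e]; group
    _ = _ := by rw [h1, h3]; group

theorem cmP6' {H : Type*} [Group H] {a b u u' : H} (h1 : a * u' * a⁻¹ = u) (h2 : b * u' = u' * b) (h3 : b * u = u * b) :
    a * b * a⁻¹ * b⁻¹ * u = u * (a * b * a⁻¹ * b⁻¹) := by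
  have e := (show Commute (b * a * b⁻¹ * a⁻¹) u from cmP6 h1 h2 h3).inv_left.eq
  have e2 : (b * a * b⁻¹ * a⁻¹)⁻¹ = a * b * a⁻¹ * b⁻¹ := by group
  rwa [e2] at e

theorem F2.f3 (h : F2 f x) (hy : Yd f x y) (hs : y * f s1 = f s1 * y) : F3 f x := by
  have tt : f mt * f mt = 1 := by rw [← map_mul, show mt * mt = 1 by decide, map_one]
  have ti : (f mt)⁻¹ = f mt := inv_eq_of_mul_eq_one_right tt
  -- `y` centralises `D₁`
  have yD : ∀ p ∈ mD1, y * f p = f p * y := by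
    intro p hp
    have c1 : Commute y (f z1) := hy.yz
    have c2 : Commute y (f v1) := hy.yv
    have c3 : Commute y (f s1) := hs
    obtain ⟨i, j, k, rfl⟩ : ∃ i j k : Fin 2, p = z1 ^ i.1 * v1 ^ j.1 * s1 ^ k.1 := by revert p; decide +kernel
    simp only [map_mul, map_pow]
    exact (((c1.pow_right _).mul_right (c2.pow_right _)).mul_right (c3.pow_right _)).eq
  have tr : ∀ (g : G) (p q : Md), g * f p * g⁻¹ = f q →
      f mt * g * (f mt)⁻¹ * f (mt * p * mt⁻¹) * (f mt * g * (f mt)⁻¹)⁻¹ = f (mt * q * mt⁻¹) := by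
    intro g p q e
    simp only [map_mul, map_inv, ← e]
    group
  have trc : ∀ (g : G) (p : Md), g * f (mt⁻¹ * p * mt) = f (mt⁻¹ * p * mt) * g →
      f mt * g * (f mt)⁻¹ * f p = f p * (f mt * g * (f mt)⁻¹) := by
    intro g p e
    simp only [map_mul, map_inv] at e
    calc _ = f mt * (g * ((f mt)⁻¹ * f p * f mt)) * (f mt)⁻¹ := by group
      _ = _ := by rw [e]; group
  have d12 : ∀ p ∈ mD2, mt⁻¹ * p * mt ∈ mD1 := by decide +kernel
  have d21 : ∀ p ∈ mD1, mt⁻¹ * p * mt ∈ mD2 := by decide +kernel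
  obtain ⟨y1, hy1⟩ : ∃ y1, y1 = f mt * y * (f mt)⁻¹ := ⟨_, rfl⟩
  have y1D : ∀ p ∈ mD2, y1 * f p = f p * y1 := fun p hp => hy1 ▸ trc y p (yD _ (d12 p hp))
  have y1s : y1 * f s1 * y1⁻¹ = f z1 := by
    have := tr y _ _ hy.ys
    rwa [← hy1, show mt * s2 * mt⁻¹ = s1 by decide, show mt * z2 * mt⁻¹ = z1 by decide] at this
  have y1z : y1 * f z1 * y1⁻¹ = f (s1 * z1) := by
    have := tr y _ _ hy.yz2
    rwa [← hy1, show mt * (s2 * z2) * mt⁻¹ = s1 * z1 by decide, show mt * z2 * mt⁻¹ = z1 by decide] at this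
  have y1sz : y1 * f (s1 * z1) * y1⁻¹ = f s1 := by
    calc _ = (y1 * f s1 * y1⁻¹) * (y1 * f z1 * y1⁻¹) := by rw [map_mul]; group
      _ = _ := by rw [y1s, y1z, ← map_mul, show z1 * (s1 * z1) = s1 by decide]
  have ysz : y * f (s2 * z2) * y⁻¹ = f s2 := by
    calc _ = (y * f s2 * y⁻¹) * (y * f z2 * y⁻¹) := by rw [map_mul]; group
      _ = _ := by rw [hy.ys, hy.yz2, ← map_mul, show z2 * (s2 * z2) = s2 by decide]
  -- involutions of `D₁`
  have A1 : ∀ p ∈ mD1, p * p = 1 → p ≠ 1 → ∃ g : G, (∀ q ∈ mD2, g * f q = f q * g) ∧ g * f p * g⁻¹ = f z1 := by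
    intro p hp h1 h2
    have xi : ∀ q ∈ mD2, x⁻¹ * f q = f q * x⁻¹ := fun q hq =>
      (show Commute x (f q) from (h.x2 q hq).symm).inv_left.eq
    have : p = z1 ∨ p = v1 ∨ p = z1 * v1 ∨ p = s1 ∨ p = s1 * z1 := by revert p; decide +kernel
    rcases this with rfl | rfl | rfl | rfl | rfl
    · exact ⟨1, fun q _ => by simp, by simp⟩
    · exact ⟨x⁻¹, xi, by rw [← h.xz]; group⟩
    · exact ⟨x⁻¹ * x⁻¹, fun q hq => by rw [mul_assoc, xi q hq, ← mul_assoc, xi q hq, mul_assoc],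
        by rw [← h.xv, ← h.xz]; group⟩
    · exact ⟨y1, y1D, y1s⟩
    · exact ⟨y1⁻¹, fun q hq => (show Commute y1 (f q) from y1D q hq).inv_left.eq, by rw [← y1z]; group⟩
  have A2 : ∀ p ∈ mD2, p * p = 1 → p ≠ 1 → ∃ g : G, (∀ q ∈ mD1, g * f q = f q * g) ∧ g * f p * g⁻¹ = f z2 := by
    intro p hp h1 h2
    obtain ⟨g, g1, g2⟩ := A1 (mt⁻¹ * p * mt) (d12 p hp) (by revert p; decide +kernel) (by revert p; decide +kernel)
    refine ⟨f mt * g * (f mt)⁻¹, fun q hq => trc g q (g1 _ (d21 q hq)), ?_⟩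
    have := tr g _ _ g2
    rwa [show mt * (mt⁻¹ * p * mt) * mt⁻¹ = p by group, show mt * z1 * mt⁻¹ = z2 by decide] at this
  refine { h with ca := ?_, cb := ?_, hw := ?_ }
  · rintro p (hp | hp) h1 h2
    · obtain ⟨g, -, e⟩ := A1 p hp h1 h2
      exact isConj_iff.2 ⟨g, e⟩
    · obtain ⟨g, -, e⟩ := A2 p hp h1 h2
      refine (isConj_iff.2 ⟨g, e⟩).trans (isConj_iff.2 ⟨f mt, ?_⟩)
      rw [← map_inv, ← map_mul, ← map_mul, show mt * z2 * mt⁻¹ = z1 by decide]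
  · intro p hp h1 h2 h3
    obtain ⟨p1, p2, rfl, m1, m2, a1, a2, b1, b2⟩ : ∃ p1 p2 : Md, p = p1 * p2 ∧ p1 ∈ mD1 ∧ p2 ∈ mD2 ∧ p1 * p1 = 1 ∧
        p1 ≠ 1 ∧ p2 * p2 = 1 ∧ p2 ≠ 1 :=
      ⟨⟨p.a, p.b, p.c, false, false, false, false⟩, ⟨false, false, false, p.d, p.e, p.k, false⟩,
        by revert p; decide +kernel⟩
    obtain ⟨g1, c1, e1⟩ := A1 p1 m1 a1 a2
    obtain ⟨g2, c2, e2⟩ := A2 p2 m2 b1 b2
    refine isConj_iff.2 ⟨g2 * g1, ?_⟩
    have k1 : g1 * f p2 * g1⁻¹ = f p2 := by rw [c1 p2 m2]; group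
    have k2 : g2 * f z1 * g2⁻¹ = f z1 := by rw [c2 z1 (by decide)]; group
    calc _ = g2 * ((g1 * f p1 * g1⁻¹) * (g1 * f p2 * g1⁻¹)) * g2⁻¹ := by rw [map_mul]; group
      _ = (g2 * f z1 * g2⁻¹) * (g2 * f p2 * g2⁻¹) := by rw [e1, k1]; group
      _ = _ := by rw [k2, e2, ← map_mul, show z1 * z2 = mz by decide]
  · have sg : ∀ b ∈ mB, y * f b * y⁻¹ = f (sigP6 b) := by
      intro b hb
      obtain ⟨b1, m1, e⟩ : ∃ b1 : Md, b1 ∈ mD1 ∧ ((b = b1 * 1 ∧ sigP6 b = b1 * 1) ∨ (b = b1 * z2 ∧ sigP6 b = b1 * (s2 * z2)) ∨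
          (b = b1 * s2 ∧ sigP6 b = b1 * z2) ∨ (b = b1 * (s2 * z2) ∧ sigP6 b = b1 * s2)) :=
        ⟨⟨b.a, b.b, b.c, false, false, false, false⟩, by revert b; decide +kernel⟩
      have k : ∀ q q' : Md, y * f q * y⁻¹ = f q' → y * f (b1 * q) * y⁻¹ = f (b1 * q') := fun q q' e => by
        rw [map_mul, map_mul, ← e, ← mul_assoc, yD b1 m1]; group
      rcases e with ⟨e1, e2⟩ | ⟨e1, e2⟩ | ⟨e1, e2⟩ | ⟨e1, e2⟩ <;> rw [e2, e1]
      · exact k _ _ (by simp)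
      · exact k _ _ hy.yz2
      · exact k _ _ hy.ys
      · exact k _ _ ysz
    have c1 := cmP6 y1s (yD s1 (by decide)) (yD z1 (by decide))
    have c2 := cmP6 y1sz (yD _ (by decide)) (yD s1 (by decide))
    have c3 := cmP6' hy.ys (y1D s2 (by decide)) (y1D z2 (by decide))
    have c4 := cmP6' ysz (y1D _ (by decide)) (y1D s2 (by decide))
    obtain ⟨b, hb, eb⟩ := h.ce s1 (Or.inr rfl) (show y * y1 * y⁻¹ * y1⁻¹ ∈ _ from
      ⟨⟨mem_cent1.2 c1, mem_cent1.2 c2⟩, mem_cent1.2 c3⟩)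
    rw [← eb, ← map_mul, ← map_mul, h.toFr.eq] at c2 c4
    have hB : b ∈ mB := by
      have : ∀ b ∈ mJ, b * s1 = s1 * b → b * s2 = s2 * b → b ∈ mB := by decide +kernel
      exact this b hb c2 c4
    have ty : f mt * y1 * (f mt)⁻¹ = y := by
      rw [hy1, ti]
      calc _ = (f mt * f mt) * y * (f mt * f mt) := by group
        _ = _ := by rw [tt]; group
    have e1 : mt * b * mt⁻¹ = b⁻¹ := by
      rw [← h.toFr.eq, map_mul, map_mul, map_inv, map_inv, eb]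
      calc _ = (f mt * y * (f mt)⁻¹) * (f mt * y1 * (f mt)⁻¹) * (f mt * y * (f mt)⁻¹)⁻¹ * (f mt * y1 * (f mt)⁻¹)⁻¹ := by group
        _ = _ := by rw [ty, ← hy1]; group
    have e2 : sigP6 (sigP6 b) * sigP6 b * b = 1 := by
      rw [← h.toFr.one, map_mul, map_mul, ← sg _ (by revert hB; generalize b = b; revert b; decide +kernel), ← sg b hB, eb]
      calc _ = y ^ 3 * y1 * (y ^ 3)⁻¹ * y1⁻¹ := by simp only [pow_succ, pow_zero]; group
        _ = _ := by rw [hy.y3]; group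
    have b1 : b = 1 := by
      have : ∀ b ∈ mB, sigP6 (sigP6 b) * sigP6 b * b = 1 → mt * b * mt⁻¹ = b⁻¹ → b = 1 := by decide +kernel
      exact this b hB e2 e1
    rw [b1, map_one] at eb
    have cy : y * y1 = y1 * y := by
      calc _ = (y * y1 * y⁻¹ * y1⁻¹) * (y1 * y) := by group
        _ = _ := by rw [← eb, one_mul]
    refine ⟨y1 * y, mem_cent1.2 ?_, ?_⟩
    · have : f mt * (y1 * y) * (f mt)⁻¹ = y1 * y := by
        calc _ = (f mt * y1 * (f mt)⁻¹) * (f mt * y * (f mt)⁻¹) := by group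
          _ = _ := by rw [ty, ← hy1, cy]
      calc _ = f mt * (y1 * y) * (f mt)⁻¹ * f mt := by rw [this]
        _ = _ := by group
    · have k1 : y * f s1 * y⁻¹ = f s1 := by rw [hs]; group
      have k2 : y1 * f z2 * y1⁻¹ = f z2 := by rw [y1D z2 (by decide)]; group
      calc _ = y1 * ((y * f s1 * y⁻¹) * (y * f s2 * y⁻¹)) * y1⁻¹ := by rw [map_mul]; group
        _ = (y1 * f s1 * y1⁻¹) * (y1 * f z2 * y1⁻¹) := by rw [k1, hy.ys]; group
        _ = _ := by rw [y1s, k2, ← map_mul, show z1 * z2 = mz by decide]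

end Cfsg.Agent.SW2
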