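import Cfsg.Agent.SW2.A

/-! `S₄ ≀ 2`: `t` is not conjugate to `z₁`, and the final transfer. -/

set_option autoImplicit false
set_option linter.unusedSectionVars false

namespace Cfsg.Agent.SW2

open Cfsg.Agent.BG Subgroup

variable {G : Type*} [Group G] [Finite G] {f : Md →* G} {x : G}

theorem Fr.p7_cj (_ : Fr f x) {g : G} {p q : Md} (r : Md) (e : g * f p * g⁻¹ = f q) :
    f r * g * (f r)⁻¹ * f (r * p * r⁻¹) * (f r * g * (f r)⁻¹)⁻¹ = f (r * q * r⁻¹) := by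
  simp only [map_mul, map_inv, ← e]; group

theorem Fr.p7_xx (h : Fr f x) : ∃ w ∈ C1[f mt], w * f (v1 * v2) * w⁻¹ = f mz := by
  have tt : f mt * f mt = 1 := by rw [← map_mul, h.one]; decide
  have e1 := h.p7_cj mt h.xz
  have c (p) (hp : p ∈ mD2) : x * f p * x⁻¹ = f p := by rw [← h.x2 p hp]; group
  have e2 := h.p7_cj mt (c z2 (by decide))
  rw [show mt * z1 * mt⁻¹ = z2 by decide, show mt * v1 * mt⁻¹ = v2 by decide] at e1
  rw [show mt * z2 * mt⁻¹ = z1 by decide] at e2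
  refine ⟨(x * (f mt * x * (f mt)⁻¹))⁻¹, inv_mem (mem_cent1.2 ?_), ?_⟩
  · have ti : (f mt)⁻¹ = f mt := inv_eq_of_mul_eq_one_left tt
    calc x * (f mt * x * (f mt)⁻¹) * f mt = f mt * (f mt * x * (f mt)⁻¹ * x) := by
          rw [ti]; simp only [← mul_assoc, tt, one_mul]; simp only [mul_assoc, tt, mul_one]
      _ = _ := by rw [h.xx]
  · have : x * (f mt * x * (f mt)⁻¹) * f mz * (x * (f mt * x * (f mt)⁻¹))⁻¹ = f (v1 * v2) := by
      generalize f mt * x * (f mt)⁻¹ = y at e1 e2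
      calc x * y * f mz * (x * y)⁻¹ = x * ((y * f z1 * y⁻¹) * (y * f z2 * y⁻¹)) * x⁻¹ := by
            rw [show mz = z1 * z2 by decide, map_mul]; group
        _ = x * f z1 * x⁻¹ * (x * f v2 * x⁻¹) := by rw [e1, e2]; group
        _ = _ := by rw [h.xz, c v2 (by decide), map_mul]
    rw [← this]; group

theorem F3.nta (h : F3 f x) : ¬ IsConj (f mt) (f z1) := fun ht => by
  have := Nat.fact_prime_two
  obtain ⟨g, hg⟩ := isConj_iff.1 ht
  obtain ⟨k, -, ek, hk⟩ := extc (S := f.range) (H := ⊤) (by rw [top_inf_eq]; exact h.sylJ) h.syl.pg le_top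
    (mem_top g) hg
  have key : ∀ d : Md, d * mt = mt * d → d * d = 1 → (∃ w ∈ C1[f mt], w * f d * w⁻¹ = f mz) →
      ∃ p, k * f d * k⁻¹ = f p ∧ p ∉ mD2 ∧ z1 * p ∈ mD2 := fun d dt d2 ⟨w, hw, ew⟩ => by
    obtain ⟨p, hp, e⟩ := hk (f d) ⟨d, rfl⟩ (by rw [← map_mul, dt, map_mul])
    have cz : IsConj (f p) (f mz) := (isConj_iff.2 ⟨k, e.symm⟩).symm.trans (isConj_iff.2 ⟨w, ew⟩)
    have p2 : p * p = 1 := by rw [← h.one, map_mul, e, conj_mul, ← map_mul, d2]; simp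
    have p1 : p ≠ 1 := fun a => by
      rw [a, map_one, isConj_one_right, h.one] at cz; exact absurd cz (by decide)
    have nD : ¬ (p ∈ mD1 ∨ p ∈ mD2) := fun a => h.na ((h.ca p a p2 p1).symm.trans cz)
    have e2 : k * (f mt * f d) * k⁻¹ = f (z1 * p) := by rw [map_mul, ← ek, e]; group
    have c1 : IsConj (f (z1 * p)) (f z1) := by
      refine (isConj_iff.2 ⟨k, e2⟩).symm.trans (IsConj.trans (isConj_iff.2 ⟨f z1 * w, ?_⟩) ht)
      calc f z1 * w * (f mt * f d) * (f z1 * w)⁻¹ = f z1 * (w * f mt * w⁻¹ * (w * f d * w⁻¹)) * (f z1)⁻¹ := by group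
        _ = _ := by
          rw [ew, mem_cent1.1 hw, mul_inv_cancel_right, ← map_inv, ← map_mul, ← map_mul, ← map_mul, h.eq]; decide
    refine ⟨p, e.symm, fun a => nD (.inr a), by_contra fun a => h.na (c1.symm.trans (h.cb _ ?_ ?_ (fun b => nD (.inl ?_)) a))⟩
    · exact mul_mem (by decide) hp
    · exact (by decide +kernel : ∀ p ∈ mJ, p * p = 1 → z1 * p * (z1 * p) = 1) p hp p2
    · exact (by decide +kernel : ∀ p, z1 * p ∈ mD1 → p ∈ mD1) p b
  obtain ⟨p0, e0, n0, -⟩ := key mz (by decide) (by decide) ⟨1, one_mem _, by simp⟩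
  obtain ⟨p, e1, -, n1⟩ := key (v1 * v2) (by decide) (by decide) h.p7_xx
  obtain ⟨q, e2, -, n2⟩ := key (s1 * s2) (by decide) (by decide) h.hw
  have : p0 = p * q * p⁻¹ * q⁻¹ := by
    rw [← h.eq, ← e0, show mz = v1 * v2 * (s1 * s2) * (v1 * v2)⁻¹ * (s1 * s2)⁻¹ by decide]
    simp only [map_mul f (_ * _ * _), map_mul f (v1 * v2), map_mul f p,
      map_mul f (p * q), map_inv, ← e1, ← e2]
    group
  exact n0 (this ▸ (by decide +kernel : ∀ p, z1 * p ∈ mD2 → ∀ q, z1 * q ∈ mD2 → p * q * p⁻¹ * q⁻¹ ∈ mD2) p n1 q n2)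

theorem F3.fin (h : F3 f x) (hG : commutator G = ⊤) (hb : ¬ IsConj (f mt) (f mz)) : False := by
  have := Nat.fact_prime_two
  have hJ : mJ.map f ≤ f.range := map_le_range f _
  have : ((mJ.map f).subgroupOf f.range).Normal := ⟨by
    rintro ⟨_, p, rfl⟩ hp ⟨_, q, rfl⟩
    rw [mem_subgroupOf] at hp ⊢
    change f q * f p * (f q)⁻¹ ∈ _
    rw [← map_inv, ← map_mul, ← map_mul, h.mem]
    exact (by decide +kernel : ∀ p ∈ mJ, ∀ q, q * p * q⁻¹ ∈ mJ) p (h.mem.1 hp) q⟩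
  have tt : f mt * f mt = 1 := by rw [← map_mul, h.one]; decide
  obtain ⟨g, ⟨p, hp, e⟩, -⟩ := Loc.thompson_transfer_cyclic (S := f.range) (T := mJ.map f) (R := ⊥) (y := f mt)
    (by have := h.syl.not_dvd; rw [relIndex_top_right] at this; exact Nat.odd_iff.2 (Nat.two_dvd_ne_zero.1 this))
    (JT2.cyc_quot (y := f mt) ⟨mt, rfl⟩ (by
      rintro _ ⟨q, rfl⟩
      rcases (by decide +kernel : ∀ q, q ∈ mJ ∨ mt⁻¹ * q ∈ mJ) q with a | a
      · exact ⟨0, by simpa using mem_map_of_mem f a⟩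
      · exact ⟨1, by rw [pow_one, ← map_inv, ← map_mul]; exact mem_map_of_mem f a⟩))
    tt ⟨mt, rfl⟩ (by rw [h.mem]; decide) hJ (hG ▸ mem_top _) IsPGroup.of_bot bot_le
  have c : IsConj (f mt) (f p) := isConj_iff.2 ⟨g, e.symm⟩
  have p2 : p * p = 1 := by rw [← h.one, map_mul, e, conj_mul, tt]; simp
  have p1 : p ≠ 1 := fun a => by
    rw [a, map_one, isConj_one_left, h.one] at c; exact absurd c (by decide)
  by_cases a : p ∈ mD1 ∨ p ∈ mD2
  · exact h.nta (c.trans (h.ca p a p2 p1))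
  · exact hb (c.trans (h.cb p hp p2 (fun b => a (.inl b)) fun b => a (.inr b)))

end Cfsg.Agent.SW2
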