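import Cfsg.Agent.SW2.A

/-! `S₄ ≀ 2`: the involution `t` is not conjugate to `z` (`F3.ntb`). -/

set_option autoImplicit false
set_option linter.unusedSectionVars false

namespace Cfsg.Agent.SW2

open Cfsg.Agent.BG Subgroup

variable {G : Type*} [Group G] [Finite G] {f : Md →* G} {x : G}

theorem p7b_1 : ∀ a : Md, a ∉ mJ → a * (v1 * a⁻¹ * v1⁻¹) * (s1 * (a * (v1 * a⁻¹ * v1⁻¹))⁻¹ * s1⁻¹) = z1 := by
  decide +kernel
theorem p7b_2 : ∀ p : Md, p ∈ mD1 ∨ p ∈ mD2 → p * mz ∈ mD1 ∨ p * mz ∈ mD2 → p = z1 ∨ p = z2 := by decide +kernel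
theorem p7b_3 : ∀ p : Md, (p ∈ mJ ↔ p * z1 = z1 * p) ∧ (p ∈ mJ → p * z2 = z2 * p) := by decide +kernel
theorem p7b_4 : ∀ p q : Md, p * q * p⁻¹ * q⁻¹ ∈ mJ ∧ (p ∈ mJ → q ∈ mJ → p * q * p⁻¹ * q⁻¹ = 1 ∨
    p * q * p⁻¹ * q⁻¹ = z1 ∨ p * q * p⁻¹ * q⁻¹ = z2 ∨ p * q * p⁻¹ * q⁻¹ = mz) := by decide +kernel

theorem p7b_cj (f : Md →* G) {p q r : Md} (e : q * p * q⁻¹ = r) : IsConj (f p) (f r) :=
  isConj_iff.2 ⟨f q, by rw [← map_inv, ← map_mul, ← map_mul, e]⟩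

theorem F3.p7b_D (h : F3 f x) (hc : IsConj (f mt) (f mz)) {p : Md} (p2 : p * p = 1) (e : IsConj (f p) (f z1)) :
    p ∈ mD1 ∨ p ∈ mD2 := by
  by_contra hn
  rw [not_or] at hn
  refine h.na (e.symm.trans ?_)
  by_cases hJ : p ∈ mJ
  · exact h.cb p hJ p2 hn.1 hn.2
  · obtain ⟨q, e⟩ := tcl p p2 hJ
    exact (p7b_cj f e).trans hc

theorem F3.p7b_syl (h : F3 f x) : SylowIn 2 f.range C1[f mz] := by
  have := Nat.fact_prime_two
  refine sylow_mk h.zS h.syl.pg fun hd => h.syl.not_dvd ?_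
  rw [← relIndex_mul_relIndex _ _ _ h.zS le_top]
  exact hd.mul_right _

theorem F3.p7b_z1 (h : F3 f x) : f z1 ∈ pCoreOf 2 C1[f mz] := by
  have := Nat.fact_prime_two
  have hQ : pCoreOf 2 C1[f mz] ≤ f.range := (sylIn_iff.2 h.p7b_syl).pCoreOf_le
  have hN : ∀ q : Md, ∀ a ∈ pCoreOf 2 C1[f mz], f q * a * (f q)⁻¹ ∈ pCoreOf 2 C1[f mz] := fun q a ha =>
    (mem_normalizer_iff.1 (Loc.le_normalizer_pCoreOf _ _ (h.zS ⟨q, rfl⟩)) a).1 ha
  by_cases hJ : ∀ a : Md, f a ∈ pCoreOf 2 C1[f mz] → a ∈ mJ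
  · refine h.ch ⟨h.zS ⟨_, rfl⟩, mem_cent.2 fun a ha => ?_⟩
    obtain ⟨a, rfl⟩ := hQ ha
    rw [← map_mul, ← map_mul, (p7b_3 a).1.1 (hJ a ha)]
  · push Not at hJ
    obtain ⟨a, ha, hn⟩ := hJ
    have h1 : f (a * (v1 * a⁻¹ * v1⁻¹)) ∈ pCoreOf 2 C1[f mz] := by
      simp only [map_mul, map_inv]
      exact mul_mem ha (hN _ _ (inv_mem ha))
    rw [← p7b_1 a hn, map_mul]
    refine mul_mem h1 ?_
    rw [map_mul, map_mul, map_inv, map_inv]
    exact hN _ _ (inv_mem h1)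

theorem F3.p7b_c (h : F3 f x) (hc : IsConj (f mt) (f mz)) {c : G} (hz : c ∈ C1[f mz]) :
    c * f z1 * c⁻¹ = f z1 ∨ c * f z1 * c⁻¹ = f z2 := by
  have := Nat.fact_prime_two
  have hQ : pCoreOf 2 C1[f mz] ≤ f.range := (sylIn_iff.2 h.p7b_syl).pCoreOf_le
  obtain ⟨p, hp⟩ := hQ ((mem_normalizer_iff.1 (Loc.le_normalizer_pCoreOf _ _ hz) _).1 h.p7b_z1)
  have e2 : f (p * mz) = c * f z2 * c⁻¹ := by
    rw [map_mul, hp, show z2 = z1 * mz by decide, map_mul]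
    calc _ = c * f z1 * (c⁻¹ * (f mz * c) * c⁻¹) := by group
      _ = _ := by rw [← mem_cent1.1 hz]; group
  have q1 : p * p = 1 := by
    rw [← h.one, map_mul, hp]
    calc _ = c * (f z1 * f z1) * c⁻¹ := by group
      _ = 1 := by rw [← map_mul, show z1 * z1 = 1 by decide, map_one]; group
  have q2 : p * mz * (p * mz) = 1 := by
    rw [← h.one, map_mul, e2]
    calc _ = c * (f z2 * f z2) * c⁻¹ := by group
      _ = 1 := by rw [← map_mul, show z2 * z2 = 1 by decide, map_one]; group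
  have a1 := h.p7b_D hc q1 (isConj_iff.2 ⟨c, hp.symm⟩).symm
  have a2 := h.p7b_D hc q2 ((isConj_iff.2 ⟨c, e2.symm⟩).symm.trans (p7b_cj f (q := mt) (by decide)))
  rw [← hp]
  exact (p7b_2 p a1 a2).imp (congrArg f) (congrArg f)

theorem Fr.p7b_w (h : Fr f x) : ∃ w ∈ C1[f mt], w * f mz * w⁻¹ = f (v1 * v2) := by
  have tt : f mt * f mt = 1 := by rw [← map_mul, show mt * mt = 1 by decide, map_one]
  have ti : (f mt)⁻¹ = f mt := inv_eq_of_mul_eq_one_right tt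
  have k (p q : Md) (e : mt * p = q * mt) : f p = (f mt)⁻¹ * f q * f mt := by
    rw [mul_assoc, ← map_mul, ← e, map_mul, inv_mul_cancel_left]
  refine ⟨x * (f mt * x * (f mt)⁻¹), mem_cent1.2 ?_, ?_⟩
  · calc _ = x * f mt * x := by group
      _ = f mt * (f mt * x * (f mt)⁻¹ * x) := by rw [ti, ← mul_assoc, ← mul_assoc, ← mul_assoc, tt, one_mul]
      _ = _ := by rw [h.xx]
  · have a1 : f mt * x * (f mt)⁻¹ * f z1 * (f mt * x * (f mt)⁻¹)⁻¹ = f z1 := by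
      have := h.x2 z2 (by decide)
      have e := k z2 z1 (by decide)
      calc _ = f mt * (x * ((f mt)⁻¹ * f z1 * f mt)) * x⁻¹ * (f mt)⁻¹ := by group
        _ = f mt * f z2 * (f mt)⁻¹ := by rw [← e, ← this]; group
        _ = _ := by rw [e]; group
    have a2 : f mt * x * (f mt)⁻¹ * f z2 * (f mt * x * (f mt)⁻¹)⁻¹ = f v2 := by
      have e := k z1 z2 (by decide)
      have e' := k v1 v2 (by decide)
      calc _ = f mt * (x * ((f mt)⁻¹ * f z2 * f mt) * x⁻¹) * (f mt)⁻¹ := by group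
        _ = f mt * f v1 * (f mt)⁻¹ := by rw [← e, h.xz]
        _ = _ := by rw [e']; group
    have a3 := h.x2 v2 (by decide)
    calc _ = x * ((f mt * x * (f mt)⁻¹ * f z1 * (f mt * x * (f mt)⁻¹)⁻¹) *
          (f mt * x * (f mt)⁻¹ * f z2 * (f mt * x * (f mt)⁻¹)⁻¹)) * x⁻¹ := by
          rw [show mz = z1 * z2 by decide, map_mul]; group
      _ = x * f z1 * x⁻¹ * (x * f v2 * x⁻¹) := by rw [a1, a2]; group
      _ = _ := by rw [h.xz, ← a3, map_mul]; group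

theorem F3.ntb (h : F3 f x) : ¬ IsConj (f mt) (f mz) := by
  intro hc
  have := Nat.fact_prime_two
  obtain ⟨g, hg⟩ := isConj_iff.1 hc
  obtain ⟨k, -, ek, hk⟩ := extc (S := f.range) (H := ⊤) (R := f.range) (by rw [top_inf_eq]; exact h.p7b_syl) h.syl.pg
    le_top (mem_top g) hg
  have hm (p : Md) (e : p * mt = mt * p) : ∃ q, f q = k * f p * k⁻¹ :=
    hk _ ⟨p, rfl⟩ (by rw [← map_mul, ← map_mul, e])
  obtain ⟨pv, ev⟩ := hm (v1 * v2) (by decide)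
  obtain ⟨ps, es⟩ := hm (s1 * s2) (by decide)
  have ez : f (pv * ps * pv⁻¹ * ps⁻¹) = k * f mz * k⁻¹ := by
    rw [show mz = v1 * v2 * (s1 * s2) * (v1 * v2)⁻¹ * (s1 * s2)⁻¹ by decide]
    simp only [map_mul f _ (_ : Md)⁻¹, map_inv, map_mul f pv, map_mul f (v1 * v2), ev, es]
    group
  have hJ := (p7b_4 pv ps).1
  have c1 : k * f mz * k⁻¹ * f z1 = f z1 * (k * f mz * k⁻¹) := by
    rw [← ez, ← map_mul, ← map_mul, (p7b_3 _).1.1 hJ]
  have c2 : k * f mz * k⁻¹ * f z2 = f z2 * (k * f mz * k⁻¹) := by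
    rw [← ez, ← map_mul, ← map_mul, (p7b_3 _).2 hJ]
  have key (w : G) (hw : w ∈ C1[f mt]) (p q : Md) (e : w * f mz * w⁻¹ = f p) (e' : f q = k * f p * k⁻¹) : q ∈ mJ := by
    have hc' : (k * w * k⁻¹)⁻¹ ∈ C1[f mz] := by
      refine inv_mem (mem_cent1.2 ?_)
      rw [← ek]
      calc _ = k * (w * f mt) * k⁻¹ := by group
        _ = _ := by rw [mem_cent1.1 hw]; group
    have hc2 : k * f mz * k⁻¹ * ((k * w * k⁻¹)⁻¹ * f z1 * (k * w * k⁻¹)⁻¹⁻¹) =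
        (k * w * k⁻¹)⁻¹ * f z1 * (k * w * k⁻¹)⁻¹⁻¹ * (k * f mz * k⁻¹) := by
      rcases h.p7b_c hc hc' with a | a <;> rw [a]
      exacts [c1, c2]
    refine (p7b_3 q).1.2 (h.inj ?_)
    rw [map_mul, map_mul, e', ← e]
    calc _ = (k * w * k⁻¹) * (k * f mz * k⁻¹ * ((k * w * k⁻¹)⁻¹ * f z1 * (k * w * k⁻¹)⁻¹⁻¹)) * (k * w * k⁻¹)⁻¹ := by group
      _ = _ := by rw [hc2]; group
  obtain ⟨w, hw, e⟩ := h.p7b_w
  obtain ⟨w', hw', e'⟩ := h.hw
  have hv := key w hw _ _ e ev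
  have hs := key w'⁻¹ (inv_mem hw') _ _ (by rw [← e']; group) es
  have hz : IsConj (f mz) (f (pv * ps * pv⁻¹ * ps⁻¹)) := isConj_iff.2 ⟨k, ez.symm⟩
  rcases (p7b_4 pv ps).2 hv hs with a | a | a | a <;> rw [a] at hz ez
  · rw [map_one, isConj_one_left, h.one] at hz
    exact absurd hz (by decide)
  · exact h.na hz.symm
  · exact h.na ((p7b_cj f (q := mt) (by decide)).trans hz.symm)
  · rw [← ek] at ez
    have : f mt = f mz := by
      have := ez.trans (by rw [ek])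
      simpa using this
    exact absurd (h.inj this) (by decide)

end Cfsg.Agent.SW2
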