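import Cfsg.Agent.JT2.T6
import Cfsg.Agent.Loc.CharP
import Cfsg.Agent.Loc.TT
import Cfsg.Prelude.Def_QuasithinSetup

/-! Groups with a maximal 2-local subgroup `S₄ ≀ 2`: the model `Md = D₈ ≀ 2` of the Sylow 2-subgroup and the frames. -/

set_option autoImplicit false
set_option linter.unusedSectionVars false

namespace Cfsg.Agent.SW2

open Cfsg.Agent.BG Subgroup

/-- `⟨a, b, c, d, e, k, g⟩` stands for `z₁^a v₁^b s₁^c z₂^d v₂^e s₂^k t^g`; `s v s = v z`, `t` swaps the sides. -/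
@[ext] structure Md where
  a : Bool
  b : Bool
  c : Bool
  d : Bool
  e : Bool
  k : Bool
  g : Bool
  deriving DecidableEq

/-- coordinates -/
def eqv : Md ≃ (Bool × Bool × Bool) × (Bool × Bool × Bool) × Bool where
  toFun p := ((p.a, p.b, p.c), (p.d, p.e, p.k), p.g)
  invFun q := ⟨q.1.1, q.1.2.1, q.1.2.2, q.2.1.1, q.2.1.2.1, q.2.1.2.2, q.2.2⟩
  left_inv _ := rfl
  right_inv _ := rfl
instance instFintypeMdSW : Fintype Md := Fintype.ofEquiv _ eqv.symm

instance decAllSW (P : Md → Prop) [DecidablePred P] : Decidable (∀ p, P p) :=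
  decidable_of_iff (∀ g k e d c b a, P ⟨a, b, c, d, e, k, g⟩) ⟨fun h p => h _ _ _ _ _ _ _, fun h _ _ _ _ _ _ _ => h _⟩
instance decExSW (P : Md → Prop) [DecidablePred P] : Decidable (∃ p, P p) :=
  decidable_of_iff (∃ g k e d c b a, P ⟨a, b, c, d, e, k, g⟩)
    ⟨fun ⟨_, _, _, _, _, _, _, h⟩ => ⟨_, h⟩, fun ⟨_, h⟩ => ⟨_, _, _, _, _, _, _, h⟩⟩

def mmul (p q : Md) : Md :=
  bif p.g then ⟨p.a ^^ q.d ^^ (p.c && q.e), p.b ^^ q.e, p.c ^^ q.k, p.d ^^ q.a ^^ (p.k && q.b), p.e ^^ q.b, p.k ^^ q.c, !q.g⟩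
  else ⟨p.a ^^ q.a ^^ (p.c && q.b), p.b ^^ q.b, p.c ^^ q.c, p.d ^^ q.d ^^ (p.k && q.e), p.e ^^ q.e, p.k ^^ q.k, q.g⟩
def minv (p : Md) : Md :=
  bif p.g then ⟨p.d ^^ (p.e && p.k), p.e, p.k, p.a ^^ (p.b && p.c), p.b, p.c, true⟩
  else ⟨p.a ^^ (p.b && p.c), p.b, p.c, p.d ^^ (p.e && p.k), p.e, p.k, false⟩

theorem mmul_assoc (p q r : Md) : mmul (mmul p q) r = mmul p (mmul q r) := by
  obtain ⟨a, b, c, d, e, k, g⟩ := p
  obtain ⟨a', b', c', d', e', k', g'⟩ := q
  obtain ⟨a'', b'', c'', d'', e'', k'', g''⟩ := r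
  have h1 : ∀ a b c a' b' c' a'' b'' : Bool, (a ^^ a' ^^ (c && b') ^^ a'' ^^ ((c ^^ c') && b'')) =
      (a ^^ (a' ^^ a'' ^^ (c' && b'')) ^^ (c && (b' ^^ b'')) ^^ (b && false)) := by decide +kernel
  cases g <;> cases g' <;> simp only [mmul, cond_true, cond_false, Bool.not_true, Bool.not_false, Bool.not_not, Md.mk.injEq] <;>
    refine ⟨(h1 _ false _ _ _ _ _ _).trans (by simp only [Bool.and_false, Bool.xor_false]), Bool.xor_assoc .., Bool.xor_assoc ..,
      (h1 _ false _ _ _ _ _ _).trans (by simp only [Bool.and_false, Bool.xor_false]), Bool.xor_assoc .., Bool.xor_assoc .., trivial⟩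

instance instGroupMdSW : Group Md where
  mul := mmul
  one := ⟨false, false, false, false, false, false, false⟩
  inv := minv
  mul_assoc := mmul_assoc
  one_mul := by decide +kernel
  mul_one := by decide +kernel
  inv_mul_cancel := by decide +kernel

theorem card_Md : Nat.card Md = 128 := by rw [Nat.card_congr eqv]; simp

def z1 : Md := ⟨true, false, false, false, false, false, false⟩
def v1 : Md := ⟨false, true, false, false, false, false, false⟩
def s1 : Md := ⟨false, false, true, false, false, false, false⟩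
def z2 : Md := ⟨false, false, false, true, false, false, false⟩
def v2 : Md := ⟨false, false, false, false, true, false, false⟩
def s2 : Md := ⟨false, false, false, false, false, true, false⟩
def mt : Md := ⟨false, false, false, false, false, false, true⟩
/-- the central involution `z₁ z₂` -/
def mz : Md := ⟨true, false, false, true, false, false, false⟩

/-- subgroup of the model from a Boolean predicate -/
def sub (P : Md → Bool) (h1 : P 1 = true) (h2 : ∀ p, P p = true → ∀ q, P q = true → P (p * q⁻¹) = true) : Subgroup Md :=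
  Subgroup.ofDiv {p | P p = true} ⟨1, h1⟩ h2
instance decSubSW (P : Md → Bool) (h1 h2) : DecidablePred (· ∈ sub P h1 h2) := fun p => inferInstanceAs (Decidable (P p = true))

/-- `J = D₁ × D₂` -/
abbrev mJ : Subgroup Md := sub (fun p => !p.g) rfl (by decide +kernel)
/-- `A = V₁ V₂` -/
abbrev mA : Subgroup Md := sub (fun p => !p.g && !p.c && !p.k) rfl (by decide +kernel)
/-- `B = U₁ U₂` -/
abbrev mB : Subgroup Md := sub (fun p => !p.g && !p.b && !p.e) rfl (by decide +kernel)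
/-- `C₁ = V₁ U₂` -/
abbrev mC1 : Subgroup Md := sub (fun p => !p.g && !p.c && !p.e) rfl (by decide +kernel)
/-- `C₂ = U₁ V₂` -/
abbrev mC2 : Subgroup Md := sub (fun p => !p.g && !p.b && !p.k) rfl (by decide +kernel)
/-- `D₁ = ⟨z₁, v₁, s₁⟩` -/
abbrev mD1 : Subgroup Md := sub (fun p => !p.g && !p.d && !p.e && !p.k) rfl (by decide +kernel)
/-- `D₂ = ⟨z₂, v₂, s₂⟩` -/
abbrev mD2 : Subgroup Md := sub (fun p => !p.g && !p.a && !p.b && !p.c) rfl (by decide +kernel)

variable {G : Type*} [Group G] [Finite G] {f : Md →* G} {x : G} {p q : Md}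

/-- the basic frame: `T = f.range`, `x = x₁` of order 3, `x₂ = t x t⁻¹`, `N(A) = ⟨T, x⟩ ≅ S₄ ≀ 2` -/
structure Fr (f : Md →* G) (x : G) : Prop where
  inj : Function.Injective f
  syl : SylowIn 2 f.range ⊤
  x3 : x ^ 3 = 1
  xz : x * f z1 * x⁻¹ = f v1
  xv : x * f v1 * x⁻¹ = f (z1 * v1)
  sx : f s1 * x * (f s1)⁻¹ = x⁻¹
  x2 : ∀ p ∈ mD2, f p * x = x * f p
  xx : f mt * x * (f mt)⁻¹ * x = x * (f mt * x * (f mt)⁻¹)
  nA : ∀ g ∈ N[mA.map f], ∃ (i j : ℕ) (p : Md), g = x ^ i * (f mt * x * (f mt)⁻¹) ^ j * f p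

/-- the four elementary subgroups of order 16 -/
def Big (E : Subgroup Md) : Prop := E = mA ∨ E = mB ∨ E = mC1 ∨ E = mC2

/-- conjugates of the four subgroups inside `T` -/
structure F0 (f : Md →* G) (x : G) : Prop extends Fr f x where
  cjE : ∀ E, Big E → ∀ g : G, cj g (E.map f) ≤ f.range → ∃ E', Big E' ∧ cj g (E.map f) = E'.map f

/-- with the fusion facts of step 1 -/
structure F1 (f : Md →* G) (x : G) : Prop extends Fr f x where
  key : ∀ (H : Subgroup G) (g : G), mJ.map f ≤ H → cj g (mJ.map f) ≤ H → ∃ c ∈ H, c * g ∈ f.range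
  sylJ : SylowIn 2 (mJ.map f) C1[f z1]
  na : ¬ IsConj (f z1) (f mz)
  wcB : ∀ g : G, cj g (mB.map f) ≤ f.range → cj g (mB.map f) = mB.map f
  wcC : ∀ g : G, cj g (mC1.map f) ≤ f.range → cj g (mC1.map f) = mC1.map f ∨ cj g (mC1.map f) = mC2.map f

/-- with the centralizer facts of step 2 -/
structure F2 (f : Md →* G) (x : G) : Prop extends F1 f x where
  ch : Loc.ChP 2 C1[f mz]
  ce : ∀ u, u = v1 ∨ u = s1 → C1[f z1] ⊓ C1[f u] ⊓ C1[f z2] ≤ mJ.map f

/-- the second element of order 3 -/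
structure Yd (f : Md →* G) (x y : G) : Prop where
  y3 : y ^ 3 = 1
  yz : y * f z1 = f z1 * y
  yv : y * f v1 = f v1 * y
  yx : y * x = x * y
  ys : y * f s2 * y⁻¹ = f z2
  yz2 : y * f z2 * y⁻¹ = f (s2 * z2)

/-- the data of the last step -/
structure F3 (f : Md →* G) (x : G) : Prop extends F2 f x where
  ca : ∀ p, p ∈ mD1 ∨ p ∈ mD2 → p * p = 1 → p ≠ 1 → IsConj (f p) (f z1)
  cb : ∀ p ∈ mJ, p * p = 1 → p ∉ mD1 → p ∉ mD2 → IsConj (f p) (f mz)
  hw : ∃ w ∈ C1[f mt], w * f (s1 * s2) * w⁻¹ = f mz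

/-- `L = C(V₁⟨x⟩)` -/
abbrev cL (f : Md →* G) (x : G) : Subgroup G := C1[f z1] ⊓ C1[f v1] ⊓ C1[x]

theorem Fr.eq (h : Fr f x) : f p = f q ↔ p = q := h.inj.eq_iff
theorem Fr.one (h : Fr f x) : f p = 1 ↔ p = 1 := by rw [← h.eq, map_one]
theorem Fr.mem (h : Fr f x) {K : Subgroup Md} : f p ∈ K.map f ↔ p ∈ K := mem_map_iff_mem h.inj
theorem Fr.zS (_ : Fr f x) : f.range ≤ C1[f mz] := by
  rintro _ ⟨p, rfl⟩
  rw [mem_cent1, ← map_mul, ← map_mul, show p * mz = mz * p by revert p; decide +kernel]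
theorem Fr.x1 (h : Fr f x) : x ≠ 1 := fun e => by
  have := h.xz
  rw [e, one_mul, inv_one, mul_one, h.eq] at this
  exact absurd this (by decide)

/-- extremal conjugation -/
theorem extc {S H R : Subgroup G} {a b g : G} (hR : SylowIn 2 R (H ⊓ C1[b])) (hS : IsPGroup 2 S) (hSH : S ≤ H) (hg : g ∈ H)
    (e : g * a * g⁻¹ = b) : ∃ k ∈ H, k * a * k⁻¹ = b ∧ ∀ x ∈ S, x * a = a * x → k * x * k⁻¹ ∈ R := by
  have := Nat.fact_prime_two
  subst e
  obtain ⟨c, hc, e⟩ := Sylow_Jsub hR (Q := cj g (S ⊓ C1[a]))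
    (le_inf (cj_le_of_mem hg (inf_le_left.trans hSH)) (by rw [C1_conj]; exact cj_mono g inf_le_right))
    ((hS.to_inf_left).map _)
  refine ⟨c * g, mul_mem hc.1 hg, ?_, fun x hx h => e (by rw [← cj_mul]; exact conj_mem_cj _ ⟨hx, mem_cent1.2 h⟩)⟩
  calc _ = c * (g * a * g⁻¹) * c⁻¹ := by group
    _ = _ := by rw [mem_cent1.1 hc.2]; group

theorem tcl : ∀ p : Md, p * p = 1 → p ∉ mJ → ∃ q, q * p * q⁻¹ = mt := by decide +kernel

end Cfsg.Agent.SW2
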